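import Groth.Agent.Lefpen.H705.ChartPoly
import Mathlib.AlgebraicGeometry.Morphisms.ClosedImmersion

/-!
# Affine coordinates at a point of an embedded scheme

* `coordHom_C`: `coordHom` is compatible with the structure maps from `k`.
* `maximalIdeal_eq_map_comap`: the maximal ideal of `O_{X,x}` is generated by polynomials in the coordinates.
* `maximalIdeal_eq_span`: if `x_l - a_l` lies in the maximal ideal for all `l` then these elements generate it.
-/

set_option autoImplicit false
universe u

open CategoryTheory AlgebraicGeometry Limits TopologicalSpace Opposite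

namespace Groth.Agent.Lefpen.H705.PointCoord

open LefPen Groth.Agent.Lefpen.H705.HypIdeal Groth.Agent.Lefpen.H705.ChartPoly
open Groth.Agent.Lefpen.H705.SecIdeal IsLocalRing
open Groth.Agent.Sga5

section Alg

/-- Modulo the ideal `(X_l - a_l)` every polynomial is congruent to its value. -/
theorem sub_C_eval_mem {σ k : Type*} [CommRing k] (a : σ → k) (p : MvPolynomial σ k) :
    p - MvPolynomial.C (MvPolynomial.eval a p) ∈
      Ideal.span (Set.range fun l => MvPolynomial.X l - MvPolynomial.C (a l)) := by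
  have h : (Ideal.Quotient.mk (Ideal.span (Set.range fun l => MvPolynomial.X l - MvPolynomial.C (a l)))) =
      (Ideal.Quotient.mk (Ideal.span (Set.range fun l => MvPolynomial.X l - MvPolynomial.C (a l)))).comp
        (MvPolynomial.C.comp (MvPolynomial.eval a)) := by
    apply MvPolynomial.ringHom_ext
    · intro c
      simp
    · intro l
      rw [RingHom.comp_apply, RingHom.comp_apply, MvPolynomial.eval_X, Ideal.Quotient.eq]
      exact Ideal.subset_span ⟨l, rfl⟩
  rw [← Ideal.Quotient.eq]
  exact congr($h p)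

/-- A prime ideal of a polynomial ring over a field that contains all `X_l - a_l` is generated by them. -/
theorem eq_span_of_mem {σ k : Type*} [Field k] (a : σ → k) (P : Ideal (MvPolynomial σ k)) (hP : P ≠ ⊤)
    (h : ∀ l, MvPolynomial.X l - MvPolynomial.C (a l) ∈ P) :
    P = Ideal.span (Set.range fun l => MvPolynomial.X l - MvPolynomial.C (a l)) := by
  refine le_antisymm ?_ (Ideal.span_le.mpr (by rintro _ ⟨l, rfl⟩; exact h l))
  intro p hp
  have h1 := sub_C_eval_mem a p
  have h2 : MvPolynomial.C (MvPolynomial.eval a p) ∈ P := by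
    have h3 : p - (p - MvPolynomial.C (MvPolynomial.eval a p)) ∈ P :=
      P.sub_mem hp (Ideal.span_le.mpr (by rintro _ ⟨l, rfl⟩; exact h l) h1)
    simpa using h3
  have h4 : MvPolynomial.eval a p = 0 := by
    by_contra hne
    apply hP
    rw [Ideal.eq_top_iff_one]
    have := P.mul_mem_left (MvPolynomial.C (MvPolynomial.eval a p)⁻¹) h2
    rwa [← MvPolynomial.C_mul, inv_mul_cancel₀ hne, MvPolynomial.C_1] at this
  rw [h4] at h1
  simpa using h1

end Alg

variable {r : ℕ} {k : Type u} [Field k] {d : ℕ} {X : Scheme.{u}} (i : X ⟶ CohB1.ProjSpace r k)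

/-- The germ map from the chart. -/
noncomputable def chartStalk (j : Fin (r + 1)) (x : X) (hx : i x ∈ LefPen.chart r k j) :
    Γ(CohB1.ProjSpace r k, LefPen.chart r k j) →+* X.presheaf.stalk x :=
  (i.stalkMap x).hom.comp ((CohB1.ProjSpace r k).presheaf.germ (LefPen.chart r k j) (i x) hx).hom

theorem coordHom_eq (j : Fin (r + 1)) (x : X) (hx : i x ∈ LefPen.chart r k j) :
    coordHom i j x hx = (chartStalk i j x hx).comp (polyToChart j) := rfl

theorem chartStalk_map_comap [IsClosedImmersion i] (j : Fin (r + 1)) (x : X) (hx : i x ∈ LefPen.chart r k j) :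
    ((maximalIdeal (X.presheaf.stalk x)).comap (chartStalk i j x hx)).map (chartStalk i j x hx) =
      maximalIdeal (X.presheaf.stalk x) := by
  have hU := isAffineOpen_chart (r := r) (k := k) j
  let _ := (CohB1.ProjSpace r k).presheaf.algebra_section_stalk (⟨i x, hx⟩ : LefPen.chart r k j)
  have hloc : IsLocalization.AtPrime ((CohB1.ProjSpace r k).presheaf.stalk (i x))
      (hU.primeIdealOf ⟨i x, hx⟩).asIdeal := hU.isLocalization_stalk ⟨i x, hx⟩
  have h1 : ((maximalIdeal ((CohB1.ProjSpace r k).presheaf.stalk (i x))).comap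
      ((CohB1.ProjSpace r k).presheaf.germ (LefPen.chart r k j) (i x) hx).hom).map
      ((CohB1.ProjSpace r k).presheaf.germ (LefPen.chart r k j) (i x) hx).hom =
      maximalIdeal ((CohB1.ProjSpace r k).presheaf.stalk (i x)) :=
    IsLocalization.map_under (hU.primeIdealOf ⟨i x, hx⟩).asIdeal.primeCompl
      ((CohB1.ProjSpace r k).presheaf.stalk (i x)) _
  have hs : Function.Surjective (i.stalkMap x).hom := i.stalkMap_surjective x
  have h2 : (maximalIdeal (X.presheaf.stalk x)).comap (i.stalkMap x).hom =
      maximalIdeal ((CohB1.ProjSpace r k).presheaf.stalk (i x)) :=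
    IsLocalRing.eq_maximalIdeal (Ideal.comap_isMaximal_of_surjective _ hs)
  rw [chartStalk, ← Ideal.comap_comap, ← Ideal.map_map, h2, h1, ← h2,
    Ideal.map_comap_of_surjective _ hs]

/-- The maximal ideal of the local ring at a point of an embedded scheme is generated by polynomials in the
affine coordinates. -/
theorem maximalIdeal_eq_map_comap [IsClosedImmersion i] (j : Fin (r + 1)) (x : X) (hx : i x ∈ LefPen.chart r k j) :
    ((maximalIdeal (X.presheaf.stalk x)).comap (coordHom i j x hx)).map (coordHom i j x hx) =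
      maximalIdeal (X.presheaf.stalk x) := by
  rw [coordHom_eq, ← Ideal.comap_comap, ← Ideal.map_map,
    Ideal.map_comap_of_surjective _ (polyToChart_bijective j).2, chartStalk_map_comap]

theorem chart_appLE_injective (j : Fin (r + 1)) : Function.Injective
    ((ProjSmooth.chart r k j).appLE (LefPen.chart r k j) ⊤ (top_le_preimage j)).hom := by
  intro a b hab
  obtain ⟨p, rfl⟩ := (polyToChart_bijective j).2 a
  obtain ⟨q, rfl⟩ := (polyToChart_bijective j).2 b
  rw [chart_appLE_polyToChart, chart_appLE_polyToChart] at hab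
  rw [(ConcreteCategory.bijective_of_isIso
    (Scheme.ΓSpecIso (CommRingCat.of (MvPolynomial (Fin r) k))).inv).1 hab]

/-- Constants on the chart. -/
theorem polyToChart_C (j : Fin (r + 1)) (c : k) :
    polyToChart (r := r) j (MvPolynomial.C c) =
      ((CohB1.ProjSpace.toSpec r k).appLE ⊤ (LefPen.chart r k j) le_top).hom
        ((Scheme.ΓSpecIso (CommRingCat.of k)).inv.hom c) := by
  apply chart_appLE_injective
  rw [chart_appLE_polyToChart]
  have h1 := Scheme.Hom.appLE_comp_appLE (ProjSmooth.chart r k j) (CohB1.ProjSpace.toSpec r k) ⊤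
    (LefPen.chart r k j) ⊤ le_top (top_le_preimage j)
  have h2 := congr($(h1).hom ((Scheme.ΓSpecIso (CommRingCat.of k)).inv.hom c))
  refine Eq.trans ?_ h2.symm
  have h3 := Scheme.ΓSpecIso_inv_naturality (CommRingCat.ofHom (MvPolynomial.C : k →+* MvPolynomial (Fin r) k))
  have h4 := congr($(h3).hom c)
  refine h4.trans ?_
  have h5 : (ProjSmooth.chart r k j ≫ CohB1.ProjSpace.toSpec r k).appLE ⊤ ⊤ le_top =
    (Spec.map (CommRingCat.ofHom (MvPolynomial.C : k →+* MvPolynomial (Fin r) k))).appTop := by
    rw [ProjSmooth.chart_toSpec, Scheme.Hom.appTop, Scheme.Hom.app_eq_appLE]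
    rfl
  rw [h5]
  rfl

theorem coordHom_C (j : Fin (r + 1)) (x : X) (hx : i x ∈ LefPen.chart r k j) (c : k) :
    coordHom i j x hx (MvPolynomial.C c) = toStalk k (i ≫ CohB1.ProjSpace.toSpec r k) x c := by
  rw [coordHom_eq, RingHom.comp_apply, polyToChart_C, chartStalk]
  change (i.stalkMap x).hom (((CohB1.ProjSpace r k).presheaf.germ (LefPen.chart r k j) (i x) hx).hom
    (((CohB1.ProjSpace.toSpec r k).appLE ⊤ (LefPen.chart r k j) le_top).hom
        ((Scheme.ΓSpecIso (CommRingCat.of k)).inv.hom c))) =
    (X.presheaf.germ ⊤ x trivial).hom ((i ≫ CohB1.ProjSpace.toSpec r k).appTop.hom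
      ((Scheme.ΓSpecIso (CommRingCat.of k)).inv.hom c))
  have h1 : (CohB1.ProjSpace.toSpec r k).appLE ⊤ (LefPen.chart r k j) le_top ≫
      (CohB1.ProjSpace r k).presheaf.germ (LefPen.chart r k j) (i x) hx ≫ i.stalkMap x =
      (i ≫ CohB1.ProjSpace.toSpec r k).appTop ≫ X.presheaf.germ ⊤ x trivial := by
    rw [Scheme.Hom.appLE, Category.assoc]
    have h2 := (CohB1.ProjSpace r k).presheaf.germ_res_assoc
      (homOfLE (show LefPen.chart r k j ≤ (CohB1.ProjSpace.toSpec r k) ⁻¹ᵁ ⊤ from le_top)) (i x) hx (i.stalkMap x)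
    refine (congrArg ((CohB1.ProjSpace.toSpec r k).app ⊤ ≫ ·) h2).trans ?_
    rw [Scheme.Hom.germ_stalkMap]
    rfl
  exact congr($(h1).hom ((Scheme.ΓSpecIso (CommRingCat.of k)).inv.hom c))

/-- If `x_l - a_l` lies in the maximal ideal for all `l`, then these elements generate it. -/
theorem maximalIdeal_eq_span [IsClosedImmersion i] (j : Fin (r + 1)) (x : X) (hx : i x ∈ LefPen.chart r k j)
    (a : Fin r → k)
    (ha : ∀ l, coordHom i j x hx (MvPolynomial.X l - MvPolynomial.C (a l)) ∈ maximalIdeal (X.presheaf.stalk x)) :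
    maximalIdeal (X.presheaf.stalk x) =
      Ideal.span (Set.range fun l => coordHom i j x hx (MvPolynomial.X l - MvPolynomial.C (a l))) := by
  have h1 := eq_span_of_mem a ((maximalIdeal (X.presheaf.stalk x)).comap (coordHom i j x hx))
    (Ideal.IsPrime.ne_top inferInstance) ha
  conv_lhs => rw [← maximalIdeal_eq_map_comap i j x hx, h1, Ideal.map_span, ← Set.range_comp]
  rfl

end Groth.Agent.Lefpen.H705.PointCoord
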