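import Groth.Agent.CalgB.RegCompletion
import Groth.Agent.Ega41.PowEval
import Groth.Agent.Ega4B.CplFinite
import Groth.Agent.CurvesB.SeriesEval
import Groth.Agent.CurvesB.CplMap

/-!
# Completed local rings of regular local rings with a coefficient field

* `exists_completion_equiv`: `A` regular local of dimension `n`, `φ : k →+* A` with `k → A/m` surjective, `t : Fin n → A`
  generating the maximal ideal: the completion of `A` is `k[[X_1, …, X_n]]` with `t_i ↦ X_i`.
* `exists_quotient_completion_equiv`: completion of a quotient by a principal ideal.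
-/

set_option autoImplicit false

universe u

namespace Groth.Agent.Lefpen.H705.Completion

open IsLocalRing MvPowerSeries

theorem exists_completion_equiv {k A : Type*} [Field k] [CommRing A] [IsRegularLocalRing A]
    (φ : k →+* A) (hres : ∀ z : A, ∃ c : k, z - φ c ∈ maximalIdeal A) (n : ℕ) (t : Fin n → A)
    (ht : Ideal.span (Set.range t) = maximalIdeal A) (hn : ringKrullDim A = n) :
    ∃ e : AdicCompletion (maximalIdeal A) A ≃+* MvPowerSeries (Fin n) k,
      (∀ c : k, e (algebraMap A _ (φ c)) = C c) ∧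
      (∀ i, e (algebraMap A _ (t i)) = X i) ∧
      ∀ p : MvPolynomial (Fin n) k, e (algebraMap A _ (MvPolynomial.eval₂Hom φ t p)) = (p : MvPowerSeries (Fin n) k) := by
  let B := AdicCompletion (maximalIdeal A) A
  let τ : Fin n → B := fun i => algebraMap A B (t i)
  have hτ : Ideal.span (Set.range τ) = maximalIdeal B := by
    have h1 := congrArg (Ideal.map (algebraMap A B)) ht
    rw [Ideal.map_span, ← Set.range_comp] at h1
    rw [AdicCompletion.maximalIdeal_eq_map]
    exact h1
  have hτm : ∀ i, τ i ∈ maximalIdeal B := fun i => hτ.le (Ideal.subset_span ⟨i, rfl⟩)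
  let σ : k →+* B := (algebraMap A B).comp φ
  let Φ := Groth.Agent.CurvesB.SeriesEval.eval (maximalIdeal B) σ τ hτm
  have hΦ : Function.Surjective Φ := by
    refine Groth.Agent.CurvesB.SeriesEval.eval_surjective (maximalIdeal B) σ τ hτm hτ.symm ?_
    intro b
    obtain ⟨b, rfl⟩ := Ideal.Quotient.mk_surjective b
    obtain ⟨r, hr⟩ := (AdicCompletion.residueField_map_bijective A).2 (residue B b)
    obtain ⟨a, rfl⟩ := residue_surjective r
    obtain ⟨c, hc⟩ := hres a
    refine ⟨c, ?_⟩
    rw [RingHom.comp_apply, Ideal.Quotient.eq, ← neg_sub]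
    refine neg_mem ?_
    have h1 : b - algebraMap A B a ∈ maximalIdeal B := by
      rw [← residue_eq_zero_iff, map_sub, ← hr, ResidueField.map_residue, sub_self]
    have h2 : algebraMap A B (a - φ c) ∈ maximalIdeal B := by
      rw [AdicCompletion.maximalIdeal_eq_map]
      exact Ideal.mem_map_of_mem _ hc
    have h3 := add_mem h1 h2
    rw [map_sub] at h3
    simpa [σ] using h3
  have hN : IsNoetherianRing B := isNoetherianRing_of_surjective _ _ Φ hΦ
  have hinj : Function.Injective Φ := by
    rw [injective_iff_map_eq_zero]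
    intro f hf
    by_contra hf0
    have h1 := ringKrullDim_succ_le_of_surjective Φ hΦ (mem_nonZeroDivisors_of_ne_zero hf0) hf
    rw [Groth.Agent.CalgB.RegCompletion.ringKrullDim_completion, Groth.Agent.CalgB.PowField.ringKrullDim_eq, hn] at h1
    have h2 : n + 1 ≤ n := by exact_mod_cast h1
    omega
  let e : MvPowerSeries (Fin n) k ≃+* B := RingEquiv.ofBijective Φ ⟨hinj, hΦ⟩
  refine ⟨e.symm, fun c => ?_, fun i => ?_, fun p => ?_⟩
  · rw [RingEquiv.symm_apply_eq]
    exact (Groth.Agent.CurvesB.SeriesEval.eval_C (maximalIdeal B) σ τ hτm c).symm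
  · rw [RingEquiv.symm_apply_eq]
    exact (Groth.Agent.CurvesB.SeriesEval.eval_X (maximalIdeal B) σ τ hτm i).symm
  · rw [RingEquiv.symm_apply_eq]
    refine Eq.trans ?_ (Groth.Agent.CurvesB.SeriesEval.eval_coe (maximalIdeal B) σ τ hτm p).symm
    rw [MvPolynomial.coe_eval₂Hom, MvPolynomial.coe_eval₂Hom, MvPolynomial.hom_eval₂]

open scoped TensorProduct

theorem equivQuotientMap_algebraMap {A : Type u} [CommRing A] [IsLocalRing A] [IsNoetherianRing A] (q : Ideal A)
    [IsLocalRing (A ⧸ q)] (a : A) :
    Groth.Agent.Ega4B.CplFinite.equivQuotientMap A q (algebraMap _ _ (Ideal.Quotient.mk q a)) =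
      Ideal.Quotient.mk _ (algebraMap A (AdicCompletion (maximalIdeal A) A) a) := by
  have h1 := Groth.Agent.Ega4B.CplFinite.equivQuotient_algebraMap A q (Ideal.Quotient.mk q a)
  rw [Groth.Agent.Ega4B.CplFinite.equivQuotientMap, RingEquiv.trans_apply, h1]
  change (Algebra.TensorProduct.quotIdealMapEquivTensorQuot
      (AdicCompletion (maximalIdeal A) A) q).symm
      ((1 : AdicCompletion (maximalIdeal A) A) ⊗ₜ[A] (Ideal.Quotient.mk q a)) = _
  rw [AlgEquiv.symm_apply_eq]
  have h2 : ((1 : AdicCompletion (maximalIdeal A) A) ⊗ₜ[A] (Ideal.Quotient.mk q a)) =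
      (algebraMap A (AdicCompletion (maximalIdeal A) A) a) ⊗ₜ[A] (1 : A ⧸ q) := by
    have h3 : (Ideal.Quotient.mk q a) = a • (1 : A ⧸ q) := by
      rw [Algebra.smul_def, mul_one]; rfl
    rw [h3, ← TensorProduct.smul_tmul, Algebra.smul_def, mul_one]
  rw [h2]
  rfl

theorem exists_quotient_completion_equiv {A B : Type u} {P : Type*} [CommRing A] [CommRing B] [CommRing P]
    [IsLocalRing A] [IsLocalRing B] [IsNoetherianRing A] (π : A →+* B) (hπ : Function.Surjective π) (h : A)
    (hk : RingHom.ker π = Ideal.span {h}) (e : AdicCompletion (maximalIdeal A) A ≃+* P) :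
    ∃ e' : AdicCompletion (maximalIdeal B) B ≃+* (P ⧸ Ideal.span {e (algebraMap A _ h)}),
      ∀ a : A, e' (algebraMap B _ (π a)) = Ideal.Quotient.mk _ (e (algebraMap A _ a)) := by
  let ε : (A ⧸ Ideal.span {h}) ≃+* B :=
    (Ideal.quotEquivOfEq hk.symm).trans (RingHom.quotientKerEquivOfSurjective hπ)
  have hε : ∀ a, ε (Ideal.Quotient.mk _ a) = π a := fun a => rfl
  have hloc : IsLocalRing (A ⧸ Ideal.span {h}) := ε.symm.isLocalRing
  have h4 : Ideal.span {e (algebraMap A _ h)} =
      ((Ideal.span {h}).map (algebraMap A (AdicCompletion (maximalIdeal A) A))).map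
        (e : AdicCompletion (maximalIdeal A) A →+* P) := by
    rw [Ideal.map_span, Ideal.map_span, Set.image_singleton, Set.image_singleton]
    rfl
  refine ⟨((Groth.Agent.CurvesB.CplMap.congrLocal ε.symm).trans
    (Groth.Agent.Ega4B.CplFinite.equivQuotientMap A (Ideal.span {h}))).trans
      (Ideal.quotientEquiv _ _ e h4), fun a => ?_⟩
  rw [RingEquiv.trans_apply, RingEquiv.trans_apply, Groth.Agent.CurvesB.CplMap.congrLocal_algebraMap,
    ← hε, RingEquiv.symm_apply_apply, equivQuotientMap_algebraMap]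
  rfl

end Groth.Agent.Lefpen.H705.Completion
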