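import Groth.Agent.Lefpen.H705.Quadric
import Groth.Agent.Lefpen.H705.ClosedPoint
import Groth.Agent.Lefpen.H705.Completion

/-!
# A hypersurface section with a prescribed ordinary quadratic singularity

* `exists_coordinates`: affine coordinates at a closed point of a smooth embedded scheme.
* `isOrdQuadSing_of_completion`: criterion for an ordinary quadratic singularity of a hypersurface section.
* `exists_hypersurface_ordQuadSing`.
-/

set_option autoImplicit false
universe u

open CategoryTheory AlgebraicGeometry Limits TopologicalSpace Opposite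

namespace Groth.Agent.Lefpen.H705.OrdQuadHyp

open LefPen Groth.Agent.Lefpen.H705.HypIdeal Groth.Agent.Lefpen.H705.ChartPoly
open Groth.Agent.Lefpen.H705.SecIdeal Groth.Agent.Lefpen.H705.PointCoord IsLocalRing
open Groth.Agent.Lefpen.H705.ClosedPoint Groth.Agent.Lefpen.H705.Quadric
open Groth.Agent.Sga5

variable {k : Type u} [Field k] {r : ℕ} {X : Scheme.{u}} (i : X ⟶ CohB1.ProjSpace r k)

/-- Affine coordinates at a closed point of a smooth embedded scheme: `n` of the coordinate functions, translated to
vanish at the point, generate the maximal ideal. -/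
theorem exists_coordinates [IsAlgClosed k] [IsClosedImmersion i] (n : ℕ)
    [SmoothOfRelativeDimension n (i ≫ CohB1.ProjSpace.toSpec r k)]
    (x : X) (hx : IsClosed ({x} : Set X)) (j : Fin (r + 1)) (hj : i x ∈ LefPen.chart r k j) :
    ∃ (a : Fin r → k) (σ : Fin n → Fin r),
      (∀ l, coordHom i j x hj (MvPolynomial.X l - MvPolynomial.C (a l)) ∈ maximalIdeal (X.presheaf.stalk x)) ∧
      Ideal.span (Set.range fun s => coordHom i j x hj (MvPolynomial.X (σ s) - MvPolynomial.C (a (σ s)))) =
        maximalIdeal (X.presheaf.stalk x) := by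
  have hs : Smooth (i ≫ CohB1.ProjSpace.toSpec r k) := SmoothOfRelativeDimension.smooth n _
  have hreg := isRegularLocalRing_stalk (i ≫ CohB1.ProjSpace.toSpec r k) x
  choose a ha using fun l => exists_sub_toStalk_mem (i ≫ CohB1.ProjSpace.toSpec r k) x hx
    (coordHom i j x hj (MvPolynomial.X l))
  have ha' : ∀ l, coordHom i j x hj (MvPolynomial.X l - MvPolynomial.C (a l)) ∈
      maximalIdeal (X.presheaf.stalk x) := by
    intro l
    rw [map_sub, coordHom_C]
    exact ha l
  have hspan := maximalIdeal_eq_span i j x hj a ha'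
  obtain ⟨σ, hσ⟩ := exists_subfamily _ hspan.symm n
    (finrank_cotangentSpace_stalk (i ≫ CohB1.ProjSpace.toSpec r k) n x hx)
  exact ⟨a, σ, ha', hσ⟩

/-- The structure map of the local ring of a section. -/
theorem toStalk_sec {d : ℕ} (s : Set (Form r k d)) (y : Sec i s) (c : k) :
    ((secι i s).stalkMap y).hom (toStalk k (i ≫ CohB1.ProjSpace.toSpec r k) (secι i s y) c) =
      toStalk k (secToSpec i s) y c :=
  Groth.Agent.CurvesB.StalkSemilinear.stalkMap_stMap (secι i s) (secToSpec i s) (i ≫ CohB1.ProjSpace.toSpec r k)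
    (RingHom.id k) (by simp) y c

/-- Closed points of a section. -/
theorem isClosed_sec {d : ℕ} (s : Set (Form r k d)) (y : Sec i s) (h : IsClosed ({secι i s y} : Set X)) :
    IsClosed ({y} : Set (Sec i s)) := by
  have h1 : ({y} : Set (Sec i s)) = (secι i s) ⁻¹' {secι i s y} := by
    ext z
    simp only [Set.mem_singleton_iff, Set.mem_preimage]
    constructor
    · rintro rfl; rfl
    · intro hz
      exact (secι i s).isEmbedding.injective hz
  rw [h1]
  exact h.preimage (secι i s).continuous

/-- Criterion for an ordinary quadratic singularity in terms of an isomorphism of the completed local ring of the ambient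
scheme with a power series ring. -/
theorem isOrdQuadSing_of_completion {d m : ℕ} (H : Form r k d) (y : Sec i ({H} : Set (Form r k d)))
    (hcl : IsClosed ({secι i ({H} : Set (Form r k d)) y} : Set X)) (j : Fin (r + 1))
    (hj : i (secι i ({H} : Set (Form r k d)) y) ∈ LefPen.chart r k j)
    [IsNoetherianRing (X.presheaf.stalk (secι i ({H} : Set (Form r k d)) y))]
    (e : AdicCompletion (maximalIdeal (X.presheaf.stalk (secι i ({H} : Set (Form r k d)) y)))
      (X.presheaf.stalk (secι i ({H} : Set (Form r k d)) y)) ≃+* MvPowerSeries (Fin (m + 1)) k)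
    (he : ∀ c : k, e (algebraMap _ _ (toStalk k (i ≫ CohB1.ProjSpace.toSpec r k)
      (secι i ({H} : Set (Form r k d)) y) c)) = MvPowerSeries.C c)
    (Q₂ : Form m k 2)
    (hQ : StartsInDegTwo k (e (algebraMap _ _ (stalkEqn i j _ hj H))))
    (hQ₂ : IsQuadPart k (e (algebraMap _ _ (stalkEqn i j _ hj H))) Q₂) (hnd : NondegQuad k Q₂) :
    IsOrdQuadSing k m (secToSpec i ({H} : Set (Form r k d))) y := by
  refine ⟨isClosed_sec i _ y hcl, ?_⟩
  have hker := ker_stalkMap_secι i ({H} : Set (Form r k d)) y j hj
  rw [Set.image_singleton] at hker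
  obtain ⟨e', he'⟩ := Groth.Agent.Lefpen.H705.Completion.exists_quotient_completion_equiv
    ((secι i ({H} : Set (Form r k d))).stalkMap y).hom (stalkMap_secι_surjective i _ y) _ hker e
  refine ⟨_, Q₂, e', fun c => ?_, hQ, hQ₂, hnd⟩
  rw [← toStalk_sec, he', he]

/-- The hypersurface. -/
theorem exists_form [IsAlgClosed k] [IsClosedImmersion i] (m : ℕ)
    [SmoothOfRelativeDimension (m + 1) (i ≫ CohB1.ProjSpace.toSpec r k)]
    (x : X) (hx : IsClosed ({x} : Set X)) (j : Fin (r + 1)) (hj : i x ∈ LefPen.chart r k j) (d : ℕ) (hd : 2 ≤ d)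
    (Q : MvPolynomial (Fin (m + 1)) k) (hQ : Q.IsHomogeneous 2) :
    ∃ (H : Form r k d) (e : AdicCompletion (maximalIdeal (X.presheaf.stalk x)) (X.presheaf.stalk x) ≃+*
        MvPowerSeries (Fin (m + 1)) k),
      (∀ c : k, e (algebraMap _ _ (toStalk k (i ≫ CohB1.ProjSpace.toSpec r k) x c)) = MvPowerSeries.C c) ∧
      e (algebraMap _ _ (stalkEqn i j x hj H)) = (Q : MvPowerSeries (Fin (m + 1)) k) ∧
      stalkEqn i j x hj H ∈ maximalIdeal (X.presheaf.stalk x) := by
  have hs : Smooth (i ≫ CohB1.ProjSpace.toSpec r k) := SmoothOfRelativeDimension.smooth (m + 1) _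
  have hreg := isRegularLocalRing_stalk (i ≫ CohB1.ProjSpace.toSpec r k) x
  obtain ⟨a, σ, ha, hσ⟩ := exists_coordinates i (m + 1) x hx j hj
  obtain ⟨e, heC, heX, hep⟩ := Groth.Agent.Lefpen.H705.Completion.exists_completion_equiv
    (toStalk k (i ≫ CohB1.ProjSpace.toSpec r k) x)
    (exists_sub_toStalk_mem (i ≫ CohB1.ProjSpace.toSpec r k) x hx) (m + 1) _ hσ
    (by exact_mod_cast ringKrullDim_stalk (i ≫ CohB1.ProjSpace.toSpec r k) (m + 1) x hx)
  let L : Fin (m + 1) → MvPolynomial (Fin (r + 1)) k := fun s =>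
    MvPolynomial.X (j.succAbove (σ s)) - MvPolynomial.C (a (σ s)) * MvPolynomial.X j
  have hL : ∀ s, (L s).IsHomogeneous 1 := fun s =>
    (MvPolynomial.isHomogeneous_X k _).sub (by
      have := (MvPolynomial.isHomogeneous_C (Fin (r + 1)) (a (σ s))).mul (MvPolynomial.isHomogeneous_X k j)
      rwa [zero_add] at this)
  let P : MvPolynomial (Fin (r + 1)) k := MvPolynomial.X j ^ (d - 2) * MvPolynomial.aeval L Q
  have hP : P.IsHomogeneous d := by
    have h1 : (MvPolynomial.aeval L Q).IsHomogeneous (1 * 2) := hQ.aeval L hL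
    have h2 := ((MvPolynomial.isHomogeneous_X k j).pow (d - 2)).mul h1
    have h3 : 1 * (d - 2) + 1 * 2 = d := by omega
    rwa [h3] at h2
  have hPd : ProjChart.dehom r k j P =
      MvPolynomial.aeval (fun s => (MvPolynomial.X (σ s) - MvPolynomial.C (a (σ s)) : MvPolynomial (Fin r) k)) Q := by
    rw [map_mul, map_pow, ProjChart.dehom_X_self, one_pow, one_mul]
    have h1 : (ProjChart.dehom r k j).comp (MvPolynomial.aeval L : MvPolynomial (Fin (m + 1)) k →ₐ[k] _).toRingHom =
        (MvPolynomial.aeval (fun s => (MvPolynomial.X (σ s) - MvPolynomial.C (a (σ s)) :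
          MvPolynomial (Fin r) k)) : MvPolynomial (Fin (m + 1)) k →ₐ[k] _).toRingHom := by
      apply MvPolynomial.ringHom_ext
      · intro c
        simp
      · intro s
        simp [L]
    exact congr($h1 Q)
  have hPe : stalkEqn i j x hj ⟨P, (MvPolynomial.mem_homogeneousSubmodule d _).mpr hP⟩ =
      MvPolynomial.eval₂Hom (toStalk k (i ≫ CohB1.ProjSpace.toSpec r k) x)
        (fun s => coordHom i j x hj (MvPolynomial.X (σ s) - MvPolynomial.C (a (σ s)))) Q := by
    rw [stalkEqn_eq]
    change coordHom i j x hj (ProjChart.dehom r k j P) = _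
    rw [hPd]
    have h1 : (coordHom i j x hj).comp (MvPolynomial.aeval (fun s => (MvPolynomial.X (σ s) -
        MvPolynomial.C (a (σ s)) : MvPolynomial (Fin r) k)) : MvPolynomial (Fin (m + 1)) k →ₐ[k] _).toRingHom =
        MvPolynomial.eval₂Hom (toStalk k (i ≫ CohB1.ProjSpace.toSpec r k) x)
        (fun s => coordHom i j x hj (MvPolynomial.X (σ s) - MvPolynomial.C (a (σ s)))) := by
      apply MvPolynomial.ringHom_ext
      · intro c
        simp [coordHom_C]
      · intro s
        simp
    exact congr($h1 Q)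
  refine ⟨⟨P, (MvPolynomial.mem_homogeneousSubmodule d _).mpr hP⟩, e, heC, ?_, ?_⟩
  · rw [hPe, hep]
  · rw [hPe, ← residue_eq_zero_iff]
    have h1 : (residue (X.presheaf.stalk x)).comp
        (MvPolynomial.eval₂Hom (toStalk k (i ≫ CohB1.ProjSpace.toSpec r k) x)
          (fun s => coordHom i j x hj (MvPolynomial.X (σ s) - MvPolynomial.C (a (σ s))))) =
        ((residue (X.presheaf.stalk x)).comp (toStalk k (i ≫ CohB1.ProjSpace.toSpec r k) x)).comp
          MvPolynomial.constantCoeff := by
      apply MvPolynomial.ringHom_ext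
      · intro c
        simp
      · intro s
        rw [RingHom.comp_apply, RingHom.comp_apply, MvPolynomial.constantCoeff_X, map_zero,
          MvPolynomial.coe_eval₂Hom, MvPolynomial.eval₂_X, residue_eq_zero_iff]
        exact ha (σ s)
    refine (congr($h1 Q)).trans ?_
    have h2 : MvPolynomial.constantCoeff Q = 0 := by
      rw [MvPolynomial.constantCoeff_eq]
      exact hQ.coeff_eq_zero (by simp)
    rw [RingHom.comp_apply, h2, map_zero]

theorem startsInDegTwo_coe {m : ℕ} (Q : MvPolynomial (Fin m) k) (hQ : Q.IsHomogeneous 2) :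
    StartsInDegTwo k (Q : MvPowerSeries (Fin m) k) := by
  intro e he
  rw [MvPolynomial.coeff_coe]
  exact hQ.coeff_eq_zero (by omega)

/-- Through every closed point of a smooth embedded scheme, in every degree at least two, there is a hypersurface whose
section has that point as an ordinary quadratic singularity, with local equation a prescribed non-degenerate quadratic form. -/
theorem exists_hypersurface_ordQuadSing [IsAlgClosed k] [IsClosedImmersion i] (m : ℕ)
    [SmoothOfRelativeDimension (m + 1) (i ≫ CohB1.ProjSpace.toSpec r k)]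
    (x : X) (hx : IsClosed ({x} : Set X)) (d : ℕ) (hd : 2 ≤ d) (Q : Form m k 2) (hQ : NondegQuad k Q) :
    ∃ (H : Form r k d) (y : Sec i ({H} : Set (Form r k d))),
      secι i ({H} : Set (Form r k d)) y = x ∧
      IsOrdQuadSing k m (secToSpec i ({H} : Set (Form r k d))) y := by
  obtain ⟨j, hj⟩ : ∃ j, i x ∈ LefPen.chart r k j := by
    have h1 : i x ∈ ⨆ j : Fin (r + 1), LefPen.chart r k j := by
      rw [iSup_chart]; trivial
    exact Opens.mem_iSup.mp h1
  have hs : Smooth (i ≫ CohB1.ProjSpace.toSpec r k) := SmoothOfRelativeDimension.smooth (m + 1) _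
  have hreg := isRegularLocalRing_stalk (i ≫ CohB1.ProjSpace.toSpec r k) x
  have hQh : Q.1.IsHomogeneous 2 := (MvPolynomial.mem_homogeneousSubmodule 2 _).mp Q.2
  obtain ⟨H, e, heC, heH, hm⟩ := exists_form i m x hx j hj d hd Q.1 hQh
  obtain ⟨y, hy⟩ := exists_sec_point i ({H} : Set (Form r k d)) j x hj (by
    rintro G rfl
    exact hm)
  subst hy
  refine ⟨H, y, rfl, isOrdQuadSing_of_completion i H y hx j hj e heC Q ?_ ?_ hQ⟩
  · rw [heH]
    exact startsInDegTwo_coe Q.1 hQh
  · rw [heH]
    intro ε _
    rw [MvPolynomial.coeff_coe]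

end Groth.Agent.Lefpen.H705.OrdQuadHyp
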