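import Groth.Agent.Lefpen.H705.HypIdeal

/-!
# Sections of embedded schemes by forms: local equations

For `i : X ⟶ P^r_k`, a set `s` of degree-`d` forms and a chart `D_+(T_j)`:

* `secIdeal_ideal_of_le`: on an affine open `U ≤ i⁻¹ D_+(T_j)` the ideal of the section is generated by the pulled-back
  functions `eqn i j U hU G = i^*(G / T_j^d)`, `G ∈ s`.
* `stalkIdeal_secIdeal`, `ker_stalkMap_secι`: the stalk version, with `stalkEqn i j x hx G`.
* `mem_support_secIdeal_iff`, `exists_sec_point`.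
-/

set_option autoImplicit false
universe u

open CategoryTheory AlgebraicGeometry Limits TopologicalSpace Opposite

namespace Groth.Agent.Lefpen.H705.SecIdeal

open LefPen Groth.Agent.Divis.IdealComap Groth.Agent.Fdesc.LocGen Groth.Agent.Lefpen.H705.HypIdeal
open Groth.Agent.Divis.CartierBasic Groth.Agent.Divis.CartierStalk

variable {r : ℕ} {k : Type u} [Field k] {d : ℕ} {X : Scheme.{u}} (i : X ⟶ CohB1.ProjSpace r k)

/-- The function `i^*(G / T_j^d)` on an open `U ≤ i⁻¹ D_+(T_j)`. -/
noncomputable def eqn (j : Fin (r + 1)) (U : X.Opens) (hU : U ≤ i ⁻¹ᵁ chart r k j) (G : Form r k d) : Γ(X, U) :=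
  (i.appLE (chart r k j) U hU).hom (dehom G j)

/-- The germ of `i^*(G / T_j^d)` at a point `x` with `i x ∈ D_+(T_j)`. -/
noncomputable def stalkEqn (j : Fin (r + 1)) (x : X) (hx : i x ∈ chart r k j) (G : Form r k d) :
    X.presheaf.stalk x :=
  (i.stalkMap x).hom ((CohB1.ProjSpace r k).presheaf.germ (chart r k j) (i x) hx (dehom G j))

theorem germ_eqn (j : Fin (r + 1)) (U : X.Opens) (hU : U ≤ i ⁻¹ᵁ chart r k j) (x : X) (hx : x ∈ U)
    (G : Form r k d) : X.presheaf.germ U x hx (eqn i j U hU G) = stalkEqn i j x (hU hx) G := by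
  rw [stalkEqn, eqn]
  change (X.presheaf.germ U x hx).hom ((i.appLE (chart r k j) U hU).hom (dehom G j)) =
    (i.stalkMap x).hom (((CohB1.ProjSpace r k).presheaf.germ (chart r k j) (i x) (hU hx)).hom (dehom G j))
  rw [← RingHom.comp_apply, ← RingHom.comp_apply, ← CommRingCat.hom_comp, ← CommRingCat.hom_comp,
    Scheme.Hom.germ_stalkMap, Scheme.Hom.appLE, Category.assoc]
  have h := X.presheaf.germ_res (homOfLE hU) x hx
  rw [h]

theorem biSup_hypIdeal_ideal_of_le (s : Set (Form r k d)) (j : Fin (r + 1))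
    (U : (CohB1.ProjSpace r k).affineOpens) (hU : U.1 ≤ chart r k j) :
    (⨆ G ∈ s, hypIdeal G).ideal U = Ideal.span ((fun G => ores hU (dehom G j)) '' s) := by
  rw [← iSup_subtype'', Scheme.IdealSheafData.ideal_iSup, iSup_apply]
  simp_rw [hypIdeal_ideal_of_le _ j U hU]
  rw [← Ideal.span_iUnion]
  congr 1
  ext x
  simp [eq_comm]

/-- The ideal of a section on an affine open of the inverse image of a standard chart. -/
theorem secIdeal_ideal_of_le (s : Set (Form r k d)) (j : Fin (r + 1)) (U : X.affineOpens)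
    (hU : U.1 ≤ i ⁻¹ᵁ chart r k j) :
    (secIdeal i s).ideal U = Ideal.span (eqn i j U.1 hU '' s) := by
  rw [secIdeal, ideal_comap _ i ⟨chart r k j, isAffineOpen_chart j⟩ U hU,
    biSup_hypIdeal_ideal_of_le s j _ le_rfl, Ideal.map_span, ← Set.image_comp]
  congr 2

theorem stalkIdeal_secIdeal (s : Set (Form r k d)) (j : Fin (r + 1)) (x : X) (hx : i x ∈ chart r k j) :
    stalkIdeal (secIdeal i s) x = Ideal.span (stalkEqn i j x hx '' s) := by
  obtain ⟨U, hU, hxU, hle⟩ := exists_isAffineOpen_mem_and_subset (U := i ⁻¹ᵁ chart r k j) (x := x) hx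
  rw [stalkIdeal_eq _ ⟨U, hU⟩ hxU, secIdeal_ideal_of_le i s j ⟨U, hU⟩ hle, Ideal.map_span, ← Set.image_comp]
  congr 2
  funext G
  exact germ_eqn i j U hle x hxU G

/-- The kernel of the surjection from the local ring of `X` to the local ring of the section. -/
theorem ker_stalkMap_secι (s : Set (Form r k d)) (y : Sec i s) (j : Fin (r + 1))
    (hy : i (secι i s y) ∈ chart r k j) :
    RingHom.ker ((secι i s).stalkMap y).hom = Ideal.span (stalkEqn i j (secι i s y) hy '' s) := by
  rw [ker_stalkMap_subschemeι, stalkIdeal_secIdeal i s j _ hy]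

theorem stalkMap_secι_surjective (s : Set (Form r k d)) (y : Sec i s) :
    Function.Surjective ((secι i s).stalkMap y).hom :=
  stalkMap_subschemeι_surjective _ y

theorem mem_support_secIdeal_iff (s : Set (Form r k d)) (j : Fin (r + 1)) (x : X) (hx : i x ∈ chart r k j) :
    x ∈ (secIdeal i s).support ↔
      ∀ G ∈ s, stalkEqn i j x hx G ∈ IsLocalRing.maximalIdeal (X.presheaf.stalk x) := by
  rw [mem_support_iff_stalkIdeal_le, stalkIdeal_secIdeal i s j x hx, Ideal.span_le]
  constructor
  · intro h G hG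
    exact h ⟨G, hG, rfl⟩
  · rintro h _ ⟨G, hG, rfl⟩
    exact h G hG

theorem exists_sec_point (s : Set (Form r k d)) (j : Fin (r + 1)) (x : X) (hx : i x ∈ chart r k j)
    (h : ∀ G ∈ s, stalkEqn i j x hx G ∈ IsLocalRing.maximalIdeal (X.presheaf.stalk x)) :
    ∃ y : Sec i s, secι i s y = x :=
  exists_subscheme_apply_eq _ ((mem_support_secIdeal_iff i s j x hx).mpr h)

end Groth.Agent.Lefpen.H705.SecIdeal
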