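import Groth.Prelude.Def_LefPen
import Groth.Agent.Divis.CartierData
import Groth.Agent.Divis.CartierStalk
import Groth.Agent.Sga5.ProjSmooth

/-!
# The ideal sheaf of a hypersurface on the standard charts

* `hypIdeal_ideal_of_le`: for an affine open `U ≤ D_+(T_j)`, `(hypIdeal G).ideal U = (G / T_j^d)`.
* `secIdeal_ideal_of_le`: the same for the ideal of a section of an embedded scheme.
-/

set_option autoImplicit false
universe u

open CategoryTheory AlgebraicGeometry Limits TopologicalSpace Opposite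

namespace Groth.Agent.Lefpen.H705.HypIdeal

open LefPen Groth.Agent.Divis.IdealComap Groth.Agent.Fdesc.LocGen

variable {r : ℕ} {k : Type u} [Field k] {d : ℕ}

theorem isAffineOpen_chart (j : Fin (r + 1)) : IsAffineOpen (chart r k j) := by
  rw [LefPen.chart, ← Groth.Agent.Sga5.ProjSmooth.opensRange_chart]
  exact isAffineOpen_opensRange _

theorem iSup_chart : ⨆ j : Fin (r + 1), chart r k j = ⊤ := by
  rw [eq_top_iff]
  intro x _
  obtain ⟨j, hj⟩ := Groth.Agent.PerfB.ProjSpaceCover.exists_mem_basicOpen_X r k x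
  exact Opens.mem_iSup.mpr ⟨j, hj⟩

theorem pow_mem_primeCompl (i : Fin (r + 1)) (p : chart r k i) (n : ℕ) :
    (MvPolynomial.X i ^ n : MvPolynomial (Fin (r + 1)) k) ∈
      (ProjectiveSpectrum.asHomogeneousIdeal p.1).toIdeal.primeCompl :=
  fun h => p.2 ((ProjectiveSpectrum.isPrime p.1).mem_of_pow_mem _ h)

/-- The value of `G / T_i^d` at a point of `D_+(T_i)`, in the localization of the polynomial ring. -/
theorem dehom_val (G : Form r k d) (i : Fin (r + 1)) (p : chart r k i) :
    ((dehom G i).1 p).val =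
      Localization.mk G.1 ⟨MvPolynomial.X i ^ d, pow_mem_primeCompl i p d⟩ := by
  refine (ProjectiveSpectrum.Proj.awayToSection_apply (𝒜 := CohB1.polyGrading r k) _ _ _).trans ?_
  rw [HomogeneousLocalization.Away.val_mk, Localization.mk_eq_mk', IsLocalization.map_mk',
    ← Localization.mk_eq_mk']
  rfl

/-- `T_j / T_i` as a function on `D_+(T_i)`. -/
noncomputable def ratio (i j : Fin (r + 1)) : Γ(CohB1.ProjSpace r k, chart r k i) :=
  dehom (⟨MvPolynomial.X j, X_mem r k j⟩ : Form r k 1) i

theorem ores_val {U V : (CohB1.ProjSpace r k).Opens} (h : V ≤ U) (f : Γ(CohB1.ProjSpace r k, U)) (p : V) :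
    (ores h f).1 p = f.1 ⟨p.1, h p.2⟩ := rfl

theorem section_ext {V : (CohB1.ProjSpace r k).Opens} (f g : Γ(CohB1.ProjSpace r k, V))
    (h : ∀ p : V, (f.1 p).val = (g.1 p).val) : f = g := by
  apply Subtype.ext
  funext p
  exact HomogeneousLocalization.val_injective _ (h p)

/-- Change of chart. -/
theorem ores_dehom (G : Form r k d) (i j : Fin (r + 1)) (V : (CohB1.ProjSpace r k).Opens)
    (hi : V ≤ chart r k i) (hj : V ≤ chart r k j) :
    ores hi (dehom G i) = ores hi (ratio i j) ^ d * ores hj (dehom G j) := by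
  refine section_ext _ _ fun p => ?_
  have h1 : ((ores hi (ratio i j) ^ d * ores hj (dehom G j)).1 p).val =
      ((ratio i j).1 ⟨p.1, hi p.2⟩).val ^ d * ((dehom G j).1 ⟨p.1, hj p.2⟩).val := by
    change ((((ratio i j).1 ⟨p.1, hi p.2⟩) ^ d) * ((dehom G j).1 ⟨p.1, hj p.2⟩)).val = _
    rw [HomogeneousLocalization.val_mul, HomogeneousLocalization.val_pow]
  have h2 : ((ores hi (dehom G i)).1 p).val = ((dehom G i).1 ⟨p.1, hi p.2⟩).val := rfl
  rw [h1, h2, ratio, dehom_val, dehom_val, dehom_val, Localization.mk_pow, Localization.mk_mul,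
    Localization.mk_eq_mk_iff, Localization.r_iff_exists]
  refine ⟨1, ?_⟩
  simp only [OneMemClass.coe_one, Submonoid.coe_mul, SubmonoidClass.mk_pow, pow_one, one_mul]
  ring

theorem ores_ratio_mul (i j : Fin (r + 1)) (V : (CohB1.ProjSpace r k).Opens)
    (hi : V ≤ chart r k i) (hj : V ≤ chart r k j) :
    ores hi (ratio i j) * ores hj (ratio j i) = 1 := by
  refine section_ext _ _ fun p => ?_
  have h1 : ((ores hi (ratio i j) * ores hj (ratio j i)).1 p).val =
      ((ratio i j).1 ⟨p.1, hi p.2⟩).val * ((ratio j i).1 ⟨p.1, hj p.2⟩).val := by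
    change (((ratio i j).1 ⟨p.1, hi p.2⟩) * ((ratio j i).1 ⟨p.1, hj p.2⟩)).val = _
    rw [HomogeneousLocalization.val_mul]
  have h2 : ((1 : Γ(CohB1.ProjSpace r k, V)).1 p).val = 1 :=
    HomogeneousLocalization.val_one (x := (ProjectiveSpectrum.asHomogeneousIdeal p.1).toIdeal.primeCompl)
      (𝒜 := CohB1.polyGrading r k)
  rw [h1, h2, ratio, ratio, dehom_val, dehom_val, Localization.mk_mul, ← Localization.mk_one,
    Localization.mk_eq_mk_iff, Localization.r_iff_exists]
  refine ⟨1, ?_⟩
  simp only [OneMemClass.coe_one, Submonoid.coe_mul, pow_one, one_mul]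
  ring

theorem isUnit_ores_ratio (i j : Fin (r + 1)) (V : (CohB1.ProjSpace r k).Opens)
    (hi : V ≤ chart r k i) (hj : V ≤ chart r k j) : IsUnit (ores hi (ratio i j)) :=
  IsUnit.of_mul_eq_one _ (ores_ratio_mul i j V hi hj)

theorem span_ores_dehom (G : Form r k d) (i j : Fin (r + 1)) (V : (CohB1.ProjSpace r k).Opens)
    (hi : V ≤ chart r k i) (hj : V ≤ chart r k j) :
    Ideal.span {ores hi (dehom G i)} = Ideal.span {ores hj (dehom G j)} := by
  rw [ores_dehom G i j V hi hj]
  exact Ideal.span_singleton_mul_left_unit ((isUnit_ores_ratio i j V hi hj).pow d) _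

/-- The ideal sheaf of a hypersurface on an affine open of a standard chart. -/
theorem hypIdeal_ideal_of_le (G : Form r k d) (j : Fin (r + 1))
    (U : (CohB1.ProjSpace r k).affineOpens) (hU : U.1 ≤ chart r k j) :
    (hypIdeal G).ideal U = Ideal.span {ores hU (dehom G j)} := by
  obtain ⟨D, hD⟩ := Groth.Agent.Divis.CartierData.exists_ideal (X := CohB1.ProjSpace r k)
    (ι := ULift.{u} (Fin (r + 1))) (fun i => ⟨chart r k i.down, isAffineOpen_chart i.down⟩)
    (by
      rw [eq_top_iff, ← iSup_chart (r := r) (k := k)]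
      exact iSup_le fun j => le_iSup (fun i : ULift.{u} (Fin (r + 1)) => chart r k i.down) ⟨j⟩)
    (fun i => dehom G i.down)
    (fun i j V hi hj => span_ores_dehom G i.down j.down V.1 hi hj)
  have h1 : D ≤ hypIdeal G := by
    rw [hypIdeal, Scheme.IdealSheafData.le_ofIdeals_iff]
    intro V
    refine le_iInf fun i => ?_
    have hsep : (CohB1.ProjSpace r k).IsSeparated :=
      inferInstanceAs (Scheme.IsSeparated (Proj (CohB1.polyGrading r k)))
    have haff : IsAffineOpen (V.1 ⊓ chart r k i) := V.2.inf (isAffineOpen_chart i)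
    have h2 := D.ideal_le_comap_ideal (U := ⟨V.1 ⊓ chart r k i, haff⟩) (V := V)
      (show V.1 ⊓ chart r k i ≤ V.1 from inf_le_left)
    rw [hD ⟨i⟩ ⟨V.1 ⊓ chart r k i, haff⟩ inf_le_right] at h2
    exact h2
  refine le_antisymm ?_ ?_
  · refine (Scheme.IdealSheafData.ideal_ofIdeals_le (hypFamily G) U).trans ?_
    refine (iInf_le _ j).trans ?_
    intro x hx
    rw [Ideal.mem_comap] at hx
    have hle : U.1 ≤ U.1 ⊓ chart r k j := le_inf le_rfl hU
    have h3 := Ideal.mem_map_of_mem (ores hle) hx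
    rw [Ideal.map_span, Set.image_singleton] at h3
    have h4 : ores hle (((CohB1.ProjSpace r k).presheaf.map
        (homOfLE (inf_le_left : U.1 ⊓ chart r k j ≤ U.1)).op).hom x) = x :=
      (ores_ores _ _ x).trans (ores_refl x)
    rw [h4] at h3
    have h5 : ores hle (((CohB1.ProjSpace r k).presheaf.map
        (homOfLE (inf_le_right : U.1 ⊓ chart r k j ≤ chart r k j)).op).hom (dehom G j)) =
          ores hU (dehom G j) :=
      ores_ores _ _ (dehom G j)
    rw [h5] at h3
    exact h3
  · rw [← hD ⟨j⟩ U hU]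
    exact h1 U

end Groth.Agent.Lefpen.H705.HypIdeal
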