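import Groth.Agent.Lefpen.H705.HypSmooth
import Mathlib.Order.Fin.Basic

/-!
# The split quadric is smooth

`exists_nondegQuad`: in every number of variables over every field there is a non-degenerate quadratic form
(`∑_{i ≤ rev i} X_i X_{rev i}`).
-/

set_option autoImplicit false
universe u

open CategoryTheory AlgebraicGeometry Limits TopologicalSpace Opposite

namespace Groth.Agent.Lefpen.H705.Quadric

open LefPen Groth.Agent.Lefpen.H705.HypSmooth

variable (k : Type u) [Field k] (m : ℕ)

/-- The split quadratic form. -/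
noncomputable def splitPoly : MvPolynomial (Fin (m + 1)) k :=
  ∑ i ∈ Finset.univ.filter (fun i : Fin (m + 1) => i ≤ i.rev), MvPolynomial.X i * MvPolynomial.X i.rev

theorem splitPoly_isHomogeneous : (splitPoly k m).IsHomogeneous 2 :=
  MvPolynomial.IsHomogeneous.sum _ _ _ fun i _ =>
    (MvPolynomial.isHomogeneous_X k i).mul (MvPolynomial.isHomogeneous_X k i.rev)

theorem pderiv_splitPoly (l : Fin (m + 1)) (hl : l ≠ l.rev) :
    MvPolynomial.pderiv l (splitPoly k m) = MvPolynomial.X l.rev := by
  have hterm : ∀ i : Fin (m + 1), MvPolynomial.pderiv l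
      (MvPolynomial.X i * MvPolynomial.X i.rev : MvPolynomial (Fin (m + 1)) k) =
      (if i.rev = l then MvPolynomial.X i else 0) + (if i = l then MvPolynomial.X i.rev else 0) := by
    intro i
    rw [Derivation.leibniz, MvPolynomial.pderiv_X, MvPolynomial.pderiv_X, smul_eq_mul, smul_eq_mul]
    congr 1
    · split_ifs with h
      · rw [h, Pi.single_eq_same, mul_one]
      · rw [Pi.single_eq_of_ne h, mul_zero]
    · split_ifs with h
      · rw [h, Pi.single_eq_same, mul_one]
      · rw [Pi.single_eq_of_ne h, mul_zero]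
  rw [splitPoly, map_sum]
  simp_rw [hterm]
  rcases lt_or_gt_of_ne hl with h | h
  · rw [Finset.sum_eq_single l]
    · rw [if_neg hl.symm, if_pos rfl, zero_add]
    · intro i hi hne
      rw [if_neg hne, add_zero, if_neg]
      rintro rfl
      rw [Finset.mem_filter] at hi
      rw [Fin.rev_rev] at h
      exact absurd h (not_lt.mpr hi.2)
    · intro hni
      exfalso
      apply hni
      rw [Finset.mem_filter]
      exact ⟨Finset.mem_univ _, le_of_lt h⟩
  · rw [Finset.sum_eq_single l.rev]
    · rw [if_pos (Fin.rev_rev l), if_neg hl.symm, add_zero]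
    · intro i hi hne
      have h1 : i.rev ≠ l := fun h' => hne (by rw [← h', Fin.rev_rev])
      rw [if_neg h1, zero_add, if_neg]
      rintro rfl
      rw [Finset.mem_filter] at hi
      exact absurd h (not_lt.mpr hi.2)
    · intro hni
      exfalso
      apply hni
      rw [Finset.mem_filter]
      exact ⟨Finset.mem_univ _, by rw [Fin.rev_rev]; exact le_of_lt h⟩

/-- The split quadratic form as a form. -/
noncomputable def splitForm : Form m k 2 :=
  ⟨splitPoly k m, (MvPolynomial.mem_homogeneousSubmodule 2 _).mpr (splitPoly_isHomogeneous k m)⟩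

theorem X_mem_jac (l : Fin (m + 1)) (hl : l ≠ l.rev) :
    (MvPolynomial.X l : MvPolynomial (Fin (m + 1)) k) ∈
      Ideal.span ({splitPoly k m} ∪ Set.range fun i => MvPolynomial.pderiv i (splitPoly k m)) := by
  have h1 : l.rev ≠ l.rev.rev := by rw [Fin.rev_rev]; exact hl.symm
  refine Ideal.subset_span (Or.inr ⟨l.rev, ?_⟩)
  change MvPolynomial.pderiv l.rev (splitPoly k m) = _
  rw [pderiv_splitPoly k m _ h1, Fin.rev_rev]

theorem X_sq_mem_jac (l : Fin (m + 1)) :
    (MvPolynomial.X l : MvPolynomial (Fin (m + 1)) k) ^ 2 ∈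
      Ideal.span ({splitPoly k m} ∪ Set.range fun i => MvPolynomial.pderiv i (splitPoly k m)) := by
  by_cases hl : l = l.rev
  · have h1 : splitPoly k m = MvPolynomial.X l * MvPolynomial.X l.rev +
        ∑ i ∈ (Finset.univ.filter (fun i : Fin (m + 1) => i ≤ i.rev)).erase l,
          MvPolynomial.X i * MvPolynomial.X i.rev := by
      refine (Finset.add_sum_erase _ (fun i : Fin (m + 1) =>
        (MvPolynomial.X i * MvPolynomial.X i.rev : MvPolynomial (Fin (m + 1)) k)) ?_).symm
      simp only [Finset.mem_filter, Finset.mem_univ, true_and]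
      exact hl.le
    have h2 : (MvPolynomial.X l : MvPolynomial (Fin (m + 1)) k) ^ 2 = splitPoly k m -
        ∑ i ∈ (Finset.univ.filter (fun i : Fin (m + 1) => i ≤ i.rev)).erase l,
          MvPolynomial.X i * MvPolynomial.X i.rev := by
      rw [h1, ← hl]; ring
    rw [h2]
    refine Ideal.sub_mem _ (Ideal.subset_span (Or.inl rfl)) (Ideal.sum_mem _ fun i hi => ?_)
    refine Ideal.mul_mem_right _ _ (X_mem_jac k m i fun h => ?_)
    rw [Finset.mem_erase] at hi
    apply hi.1
    apply Fin.ext
    have h3 := congrArg Fin.val h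
    have h4 := congrArg Fin.val hl
    rw [Fin.val_rev] at h3 h4
    omega
  · rw [pow_two]
    exact Ideal.mul_mem_left _ _ (X_mem_jac k m l hl)

theorem splitPoly_ne_zero : splitPoly k m ≠ 0 := by
  intro h
  have h1 := X_sq_mem_jac k m 0
  rw [h] at h1
  have h2 : Ideal.span ({0} ∪ Set.range fun i => MvPolynomial.pderiv i (0 : MvPolynomial (Fin (m + 1)) k)) = ⊥ := by
    rw [Ideal.span_eq_bot]
    rintro x (rfl | ⟨i, rfl⟩)
    · rfl
    · simp
  rw [h2, Ideal.mem_bot] at h1
  exact MvPolynomial.X_ne_zero (R := k) (0 : Fin (m + 1)) (pow_eq_zero_iff (two_ne_zero) |>.mp h1)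

/-- The split quadratic form is non-degenerate. -/
theorem nondegQuad_splitForm : NondegQuad k (splitForm k m) :=
  ⟨splitPoly_ne_zero k m, Or.inr (smooth_hyp_of_X_pow_mem (splitForm k m) fun j => ⟨2, X_sq_mem_jac k m j⟩)⟩

theorem exists_nondegQuad : ∃ Q : Form m k 2, NondegQuad k Q := ⟨_, nondegQuad_splitForm k m⟩

end Groth.Agent.Lefpen.H705.Quadric
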