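import Groth.Agent.Lefpen.H705.OrdQuadHyp
import Mathlib.RingTheory.MvPowerSeries.Order

/-!
# Ordinary quadratic singularities from the second order Taylor polynomial

`isOrdQuadSing_of_jet`: `x` a closed point of `X` smooth of relative dimension `m + 1`, `t : Fin (m + 1) → O_{X,x}` generating the
maximal ideal, `h` the local equation of `H` at `x`, `h ≡ Q₂(t)` modulo the cube of the maximal ideal, `Q₂` non-degenerate: the
point of `X ∩ V(H)` over `x` is an ordinary quadratic singularity.
-/

set_option autoImplicit false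
universe u

open CategoryTheory AlgebraicGeometry Limits TopologicalSpace Opposite

namespace Groth.Agent.Lefpen.H705.D2Forward

open LefPen Groth.Agent.Lefpen.H705.HypIdeal Groth.Agent.Lefpen.H705.ChartPoly
open Groth.Agent.Lefpen.H705.SecIdeal Groth.Agent.Lefpen.H705.PointCoord IsLocalRing
open Groth.Agent.Lefpen.H705.ClosedPoint Groth.Agent.Lefpen.H705.Quadric Groth.Agent.Lefpen.H705.OrdQuadHyp
open Groth.Agent.Sga5

section Order

variable {σ R : Type*} [Finite σ] [CommRing R]

theorem le_order_of_mem_pow (n : ℕ) : ∀ f ∈ (Ideal.span (Set.range (MvPowerSeries.X : σ → MvPowerSeries σ R))) ^ n,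
    (n : ℕ∞) ≤ f.order := by
  induction n with
  | zero => intro f _; simp
  | succ n ih =>
    intro f hf
    rw [pow_succ] at hf
    refine Submodule.mul_induction_on hf ?_ ?_
    · intro a ha b hb
      have h1 := ih a ha
      have h2 : (1 : ℕ∞) ≤ b.order := by
        rw [MvPowerSeries.one_le_order_iff_constCoeff_eq_zero]
        exact (Groth.Agent.Ega41.PowComplete.mem_span_X_iff _ _ b).mp hb
      refine le_trans ?_ (MvPowerSeries.le_order_mul)
      push_cast
      exact add_le_add h1 h2
    · intro a b ha hb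
      exact (le_min ha hb).trans MvPowerSeries.min_order_le_add

theorem coeff_eq_zero_of_mem_pow (n : ℕ) (f : MvPowerSeries σ R)
    (hf : f ∈ (Ideal.span (Set.range (MvPowerSeries.X : σ → MvPowerSeries σ R))) ^ n) (e : σ →₀ ℕ)
    (he : e.degree < n) : MvPowerSeries.coeff e f = 0 :=
  MvPowerSeries.coeff_of_lt_order (lt_of_lt_of_le (by exact_mod_cast he) (le_order_of_mem_pow n f hf))

end Order

variable {k : Type u} [Field k] {r : ℕ} {X : Scheme.{u}} (i : X ⟶ CohB1.ProjSpace r k)

/-- The completed local ring at a closed point, with the second order expansion of an element. -/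
theorem exists_completion_of_jet [IsAlgClosed k] (n : ℕ) (g : X ⟶ Spec (CommRingCat.of k))
    [SmoothOfRelativeDimension n g] (x : X) (hcl : IsClosed ({x} : Set X))
    (t : Fin n → X.presheaf.stalk x) (ht : Ideal.span (Set.range t) = maximalIdeal (X.presheaf.stalk x))
    (N : ℕ) (h : X.presheaf.stalk x) (Q : MvPolynomial (Fin n) k)
    (hQ : h - MvPolynomial.eval₂Hom (toStalk k g x) t Q ∈ maximalIdeal (X.presheaf.stalk x) ^ N) :
    ∃ e : AdicCompletion (maximalIdeal (X.presheaf.stalk x)) (X.presheaf.stalk x) ≃+* MvPowerSeries (Fin n) k,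
      (∀ c : k, e (algebraMap _ _ (toStalk k g x c)) = MvPowerSeries.C c) ∧
      (∀ s, e (algebraMap _ _ (t s)) = MvPowerSeries.X s) ∧
      ∀ ε : Fin n →₀ ℕ, ε.degree < N →
        MvPowerSeries.coeff ε (e (algebraMap _ _ h)) = MvPolynomial.coeff ε Q := by
  have hs : Smooth g := SmoothOfRelativeDimension.smooth n _
  have hreg := isRegularLocalRing_stalk g x
  obtain ⟨e, heC, heX, hep⟩ := Groth.Agent.Lefpen.H705.Completion.exists_completion_equiv
    (toStalk k g x) (exists_sub_toStalk_mem g x hcl) n t ht (ringKrullDim_stalk g n x hcl)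
  refine ⟨e, heC, heX, ?_⟩
  let ψ : X.presheaf.stalk x →+* MvPowerSeries (Fin n) k :=
    e.toRingHom.comp (algebraMap (X.presheaf.stalk x)
      (AdicCompletion (maximalIdeal (X.presheaf.stalk x)) (X.presheaf.stalk x)))
  have hψm : (maximalIdeal (X.presheaf.stalk x)).map ψ =
      Ideal.span (Set.range (MvPowerSeries.X : Fin n → MvPowerSeries (Fin n) k)) := by
    rw [← ht, Ideal.map_span, ← Set.range_comp]
    congr 2
    funext s
    exact heX s
  have h1 := Ideal.mem_map_of_mem ψ hQ
  rw [Ideal.map_pow, hψm, map_sub] at h1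
  have h2 : ψ (MvPolynomial.eval₂Hom (toStalk k g x) t Q) = (Q : MvPowerSeries (Fin n) k) := hep Q
  rw [h2] at h1
  intro ε hε
  have h4 := coeff_eq_zero_of_mem_pow N _ h1 ε hε
  rw [map_sub, MvPolynomial.coeff_coe, sub_eq_zero] at h4
  exact h4

/-- Criterion for an ordinary quadratic singularity through the second order jet of the local equation. -/
theorem isOrdQuadSing_of_jet [IsAlgClosed k] (m : ℕ)
    [SmoothOfRelativeDimension (m + 1) (i ≫ CohB1.ProjSpace.toSpec r k)] {d : ℕ} (H : Form r k d)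
    (y : Sec i ({H} : Set (Form r k d))) (hcl : IsClosed ({secι i ({H} : Set (Form r k d)) y} : Set X))
    (j : Fin (r + 1)) (hj : i (secι i ({H} : Set (Form r k d)) y) ∈ LefPen.chart r k j)
    (t : Fin (m + 1) → X.presheaf.stalk (secι i ({H} : Set (Form r k d)) y))
    (ht : Ideal.span (Set.range t) = maximalIdeal (X.presheaf.stalk (secι i ({H} : Set (Form r k d)) y)))
    (Q₂ : Form m k 2)
    (hQ : stalkEqn i j _ hj H - MvPolynomial.eval₂Hom
        (toStalk k (i ≫ CohB1.ProjSpace.toSpec r k) (secι i ({H} : Set (Form r k d)) y)) t Q₂.1 ∈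
      maximalIdeal (X.presheaf.stalk (secι i ({H} : Set (Form r k d)) y)) ^ 3)
    (hnd : NondegQuad k Q₂) :
    IsOrdQuadSing k m (secToSpec i ({H} : Set (Form r k d))) y := by
  have hs : Smooth (i ≫ CohB1.ProjSpace.toSpec r k) := SmoothOfRelativeDimension.smooth (m + 1) _
  have hreg := isRegularLocalRing_stalk (i ≫ CohB1.ProjSpace.toSpec r k) (secι i ({H} : Set (Form r k d)) y)
  have hQh : Q₂.1.IsHomogeneous 2 := (MvPolynomial.mem_homogeneousSubmodule 2 _).mp Q₂.2
  obtain ⟨e, heC, -, h3⟩ := exists_completion_of_jet (m + 1) (i ≫ CohB1.ProjSpace.toSpec r k)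
    (secι i ({H} : Set (Form r k d)) y) hcl t ht 3 _ Q₂.1 hQ
  refine isOrdQuadSing_of_completion i H y hcl j hj e heC Q₂ ?_ ?_ hnd
  · intro ε hε
    refine (h3 ε (by omega)).trans ?_
    exact hQh.coeff_eq_zero (by omega)
  · intro ε hε
    exact (h3 ε (by omega)).symm

/-- The same, existence of the point included. -/
theorem exists_isOrdQuadSing_of_jet [IsAlgClosed k] (m : ℕ)
    [SmoothOfRelativeDimension (m + 1) (i ≫ CohB1.ProjSpace.toSpec r k)] {d : ℕ} (H : Form r k d)
    (x : X) (hcl : IsClosed ({x} : Set X)) (j : Fin (r + 1)) (hj : i x ∈ LefPen.chart r k j)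
    (hm : stalkEqn i j x hj H ∈ maximalIdeal (X.presheaf.stalk x))
    (t : Fin (m + 1) → X.presheaf.stalk x)
    (ht : Ideal.span (Set.range t) = maximalIdeal (X.presheaf.stalk x))
    (Q₂ : Form m k 2)
    (hQ : stalkEqn i j _ hj H - MvPolynomial.eval₂Hom (toStalk k (i ≫ CohB1.ProjSpace.toSpec r k) x) t Q₂.1 ∈
      maximalIdeal (X.presheaf.stalk x) ^ 3)
    (hnd : NondegQuad k Q₂) :
    ∃ y : Sec i ({H} : Set (Form r k d)), secι i ({H} : Set (Form r k d)) y = x ∧
      IsOrdQuadSing k m (secToSpec i ({H} : Set (Form r k d))) y := by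
  obtain ⟨y, hy⟩ := exists_sec_point i ({H} : Set (Form r k d)) j x hj (by
    rintro G rfl
    exact hm)
  subst hy
  exact ⟨y, rfl, isOrdQuadSing_of_jet i m H y hcl j hj t ht Q₂ hQ hnd⟩

end Groth.Agent.Lefpen.H705.D2Forward
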