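import Mathlib.RingTheory.Smooth.Basic
import Mathlib.RingTheory.Smooth.StandardSmooth
import Mathlib.RingTheory.Derivation.Basic
import Mathlib.Algebra.MvPolynomial.PDeriv
import Mathlib.Algebra.MvPolynomial.Derivation

/-!
# Jacobian criterion for one equation

* `smooth_quotient_of_derivation`: `P` smooth over `R`, `f : P`, `D` a derivation of `P` over `R` with `D f ≡ 1 mod f`:
  then `P / (f)` is smooth over `R`.
* `smooth_quotient_of_pderiv`: the case of a polynomial ring, if `f` and its partial derivatives generate the unit ideal.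
-/

set_option autoImplicit false

namespace Groth.Agent.Lefpen.H705.JacHyp

section Deriv

variable {R P : Type*} [CommRing R] [CommRing P] [Algebra R P]

/-- The algebra map `p ↦ p - f D p` modulo `f ^ 2`. -/
noncomputable def shiftHom (f : P) (D : Derivation R P P) : P →ₐ[R] P ⧸ (Ideal.span {f} ^ 2 : Ideal P) where
  toFun p := Ideal.Quotient.mk _ (p - f * D p)
  map_one' := by simp
  map_zero' := by simp
  map_add' p q := by
    rw [← map_add, map_add]
    congr 1
    ring
  map_mul' p q := by
    rw [← map_mul, Ideal.Quotient.eq, Derivation.leibniz, smul_eq_mul, smul_eq_mul, Ideal.span_singleton_pow,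
      Ideal.mem_span_singleton]
    exact ⟨-(D p * D q), by ring⟩
  commutes' r := by
    rw [Derivation.map_algebraMap, mul_zero, sub_zero]
    rfl

theorem shiftHom_apply (f : P) (D : Derivation R P P) (p : P) :
    shiftHom f D p = Ideal.Quotient.mk _ (p - f * D p) := rfl

theorem shiftHom_self (f : P) (D : Derivation R P P) (hD : D f - 1 ∈ Ideal.span {f}) : shiftHom f D f = 0 := by
  rw [shiftHom_apply, Ideal.Quotient.eq_zero_iff_mem, Ideal.span_singleton_pow, Ideal.mem_span_singleton]
  obtain ⟨c, hc⟩ := Ideal.mem_span_singleton.mp hD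
  refine ⟨-c, ?_⟩
  have : D f = f * c + 1 := by rw [← hc]; ring
  rw [this]; ring

theorem formallySmooth_quotient_of_derivation [Algebra.FormallySmooth R P] (f : P) (D : Derivation R P P)
    (hD : D f - 1 ∈ Ideal.span {f}) : Algebra.FormallySmooth R (P ⧸ Ideal.span {f}) := by
  let π : P →ₐ[R] P ⧸ Ideal.span {f} := Ideal.Quotient.mkₐ R (Ideal.span {f})
  have hker : RingHom.ker π.toRingHom = Ideal.span {f} := Ideal.mk_ker
  have hker2 : (Ideal.span {f} ^ 2 : Ideal P) = RingHom.ker π.toRingHom ^ 2 := by rw [hker]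
  let e : (P ⧸ (Ideal.span {f} ^ 2 : Ideal P)) ≃ₐ[R] P ⧸ RingHom.ker π.toRingHom ^ 2 :=
    Ideal.quotientEquivAlgOfEq R hker2
  let g : (P ⧸ Ideal.span {f}) →ₐ[R] P ⧸ RingHom.ker π.toRingHom ^ 2 :=
    Ideal.Quotient.liftₐ (Ideal.span {f}) ((e : _ →ₐ[R] _).comp (shiftHom f D)) (by
      intro a ha
      obtain ⟨b, rfl⟩ := Ideal.mem_span_singleton.mp ha
      rw [map_mul, AlgHom.comp_apply, shiftHom_self f D hD, map_zero, zero_mul])
  refine Algebra.FormallySmooth.of_split π g ?_
  apply Ideal.Quotient.algHom_ext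
  ext p
  change π.kerSquareLift (g (Ideal.Quotient.mk _ p)) = Ideal.Quotient.mk _ p
  have h1 : g (Ideal.Quotient.mk _ p) = Ideal.Quotient.mk _ (p - f * D p) := rfl
  rw [h1]
  change π (p - f * D p) = _
  rw [map_sub]
  have h2 : π (f * D p) = 0 :=
    Ideal.Quotient.eq_zero_iff_mem.mpr (Ideal.mul_mem_right _ _ (Ideal.mem_span_singleton_self f))
  rw [h2, sub_zero]
  rfl

theorem smooth_quotient_of_derivation [Algebra.Smooth R P] (f : P) (D : Derivation R P P)
    (hD : D f - 1 ∈ Ideal.span {f}) : Algebra.Smooth R (P ⧸ Ideal.span {f}) where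
  formallySmooth := formallySmooth_quotient_of_derivation f D hD
  finitePresentation := Algebra.FinitePresentation.quotient ⟨{f}, by simp⟩

end Deriv

section Poly

variable {R σ : Type*} [CommRing R] [Finite σ]

theorem smooth_quotient_of_pderiv (f : MvPolynomial σ R)
    (h : Ideal.span ({f} ∪ Set.range fun i => MvPolynomial.pderiv i f) = ⊤) :
    Algebra.Smooth R (MvPolynomial σ R ⧸ Ideal.span {f}) := by
  have := Fintype.ofFinite σ
  have h1 : (1 : MvPolynomial σ R) ∈ Ideal.span {f} ⊔ Ideal.span (Set.range fun i => MvPolynomial.pderiv i f) := by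
    rw [← Ideal.span_union, h]; trivial
  obtain ⟨a, ha, b, hb, hab⟩ := Submodule.mem_sup.mp h1
  obtain ⟨c, hc⟩ := (Ideal.mem_span_range_iff_exists_fun).mp hb
  have : Algebra.Smooth R (MvPolynomial σ R) := ⟨inferInstance, inferInstance⟩
  refine smooth_quotient_of_derivation f (∑ i, c i • MvPolynomial.pderiv i) ?_
  have h2 : (∑ i, c i • MvPolynomial.pderiv i : Derivation R (MvPolynomial σ R) (MvPolynomial σ R)) f = b := by
    have h4 := congrFun (map_sum (Derivation.coeFnAddMonoidHom (R := R) (A := MvPolynomial σ R)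
      (M := MvPolynomial σ R)) (fun i => c i • MvPolynomial.pderiv i) Finset.univ) f
    rw [Finset.sum_apply] at h4
    rw [← hc]
    refine h4.trans ?_
    rfl
  rw [h2]
  have h3 : b - 1 = -a := by rw [← hab]; ring
  rw [h3]
  exact neg_mem ha

end Poly

end Groth.Agent.Lefpen.H705.JacHyp
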