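import Groth.Agent.Lefpen.H705.PointCoord
import Groth.Agent.Lefpen.H705.JacHyp
import Mathlib.RingTheory.MvPolynomial.EulerIdentity

/-!
# Smoothness of projective hypersurfaces

* `smooth_hyp_of_charts`: if all chart rings `k[x_1, …, x_r]/(G(x_1,…,1,…,x_r))` are smooth, then `V_+(G)` is smooth.
* `smooth_hyp_of_X_pow_mem`: if every variable has a power in the ideal generated by `G` and its partial derivatives, then
  `V_+(G)` is smooth.
-/

set_option autoImplicit false
universe u

open CategoryTheory AlgebraicGeometry Limits TopologicalSpace Opposite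

namespace Groth.Agent.Lefpen.H705.HypSmooth

open LefPen Groth.Agent.Lefpen.H705.HypIdeal Groth.Agent.Lefpen.H705.ChartPoly
open Groth.Agent.Lefpen.H705.SecIdeal Groth.Agent.Lefpen.H705.PointCoord IsLocalRing
open Groth.Agent.Sga5 Groth.Agent.Fdesc.LocGen

variable {r : ℕ} {k : Type u} [Field k] {d : ℕ}

/-- The affine open `D_+(T_j)`. -/
noncomputable def chartAff (j : Fin (r + 1)) : (CohB1.ProjSpace r k).affineOpens := ⟨LefPen.chart r k j, isAffineOpen_chart j⟩

theorem fromSpec_toSpec (j : Fin (r + 1)) :
    (chartAff (r := r) (k := k) j).2.fromSpec ≫ CohB1.ProjSpace.toSpec r k =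
      Spec.map (CommRingCat.ofHom ((polyToChart j).comp MvPolynomial.C)) := by
  have h1 := IsAffineOpen.SpecMap_appLE_fromSpec (CohB1.ProjSpace.toSpec r k)
    (isAffineOpen_top (Spec (CommRingCat.of k))) (chartAff (r := r) (k := k) j).2 le_top
  rw [← h1, IsAffineOpen.fromSpec_top, Scheme.isoSpec_Spec_inv, ← Spec.map_comp]
  congr 1
  apply CommRingCat.hom_ext
  apply RingHom.ext
  intro c
  exact (polyToChart_C j c).symm

theorem cover_eq (G : Form r k d) (j : Fin (r + 1)) :
    (hypIdeal G).subschemeCover.f (chartAff j) ≫ (hypIdeal G).subschemeι ≫ CohB1.ProjSpace.toSpec r k =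
      Spec.map (CommRingCat.ofHom ((Ideal.Quotient.mk ((hypIdeal G).ideal (chartAff j))).comp
        ((polyToChart j).comp MvPolynomial.C))) := by
  rw [← Category.assoc, Scheme.IdealSheafData.subschemeCover_map_subschemeι,
    Scheme.IdealSheafData.glueDataObjι_ι]
  refine (Category.assoc _ _ _).trans ?_
  rw [fromSpec_toSpec]
  exact (Spec.map_comp _ _).symm

theorem ideal_chartAff (G : Form r k d) (j : Fin (r + 1)) :
    (hypIdeal G).ideal (chartAff j) = Ideal.map (polyToChart j) (Ideal.span {ProjChart.dehom r k j G.1}) := by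
  refine (hypIdeal_ideal_of_le G j (chartAff j) le_rfl).trans ?_
  change Ideal.span {ores (le_refl (LefPen.chart r k j)) (LefPen.dehom G j)} = _
  rw [ores_refl, Ideal.map_span, Set.image_singleton, dehom_eq]

theorem smooth_hyp_of_charts (G : Form r k d)
    (h : ∀ j, Algebra.Smooth k (MvPolynomial (Fin r) k ⧸ Ideal.span {ProjChart.dehom r k j G.1})) :
    Smooth ((hypIdeal G).subschemeι ≫ CohB1.ProjSpace.toSpec r k) := by
  let 𝒰 : (hypIdeal G).subscheme.OpenCover :=
    Scheme.Cover.mkOfCovers (Fin (r + 1))
      (fun j => Spec (.of (Γ(CohB1.ProjSpace r k, (chartAff (r := r) (k := k) j).1) ⧸ (hypIdeal G).ideal (chartAff j))))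
      (fun j => (hypIdeal G).subschemeCover.f (chartAff j)) (fun y => by
        have h1 : (hypIdeal G).subschemeι y ∈ ⨆ j : Fin (r + 1), LefPen.chart r k j := by
          rw [iSup_chart]; trivial
        obtain ⟨j, hj⟩ := Opens.mem_iSup.mp h1
        have h2 : y ∈ ((hypIdeal G).subschemeCover.f (chartAff j)).opensRange := by
          rw [Scheme.IdealSheafData.opensRange_subschemeCover_map]
          exact hj
        exact ⟨j, h2⟩) (fun j => (hypIdeal G).subschemeCover.map_prop (chartAff j))
  rw [IsZariskiLocalAtSource.iff_of_openCover (P := @Smooth) 𝒰]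
  intro (j : Fin (r + 1))
  change Smooth ((hypIdeal G).subschemeCover.f (chartAff j) ≫ _)
  rw [cover_eq]
  refine (HasRingHomProperty.Spec_iff (P := @Smooth)).mpr ?_
  let e : (MvPolynomial (Fin r) k ⧸ Ideal.span {ProjChart.dehom r k j G.1}) ≃+*
      (Γ(CohB1.ProjSpace r k, (chartAff (r := r) (k := k) j).1) ⧸ (hypIdeal G).ideal (chartAff j)) :=
    Ideal.quotientEquiv _ _ (RingEquiv.ofBijective (polyToChart j) (polyToChart_bijective j)) (by
      rw [ideal_chartAff]; rfl)
  have h3 : (algebraMap k (MvPolynomial (Fin r) k ⧸ Ideal.span {ProjChart.dehom r k j G.1})).Smooth := by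
    rw [RingHom.smooth_algebraMap]
    exact h j
  have h4 := RingHom.Smooth.respectsIso.1 _ e h3
  exact h4

/-- Partial derivatives of the dehomogenized polynomial. -/
theorem pderiv_dehom (j : Fin (r + 1)) (l : Fin r) (p : MvPolynomial (Fin (r + 1)) k) :
    MvPolynomial.pderiv l (ProjChart.dehom r k j p) =
      ProjChart.dehom r k j (MvPolynomial.pderiv (j.succAbove l) p) := by
  induction p using MvPolynomial.induction_on with
  | C a => simp
  | add p q hp hq => simp [hp, hq]
  | mul_X p i hp =>
    rw [map_mul, Derivation.leibniz, Derivation.leibniz, hp, smul_eq_mul, smul_eq_mul, smul_eq_mul, smul_eq_mul,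
      map_add, map_mul, map_mul]
    congr 2
    obtain rfl | ⟨i, rfl⟩ := Fin.eq_self_or_eq_succAbove j i
    · rw [ProjChart.dehom_X_self, MvPolynomial.pderiv_X_of_ne (Fin.succAbove_ne _ _).symm]
      simp
    · rw [ProjChart.dehom_X, MvPolynomial.pderiv_X, MvPolynomial.pderiv_X]
      by_cases h : i = l
      · subst h; simp
      · rw [Pi.single_eq_of_ne h, Pi.single_eq_of_ne (fun h' => h (Fin.succAbove_right_injective h'))]
        simp

/-- The ideal of a form and its partial derivatives on a chart. -/
theorem dehom_mem (G : Form r k d) (j : Fin (r + 1)) (p : MvPolynomial (Fin (r + 1)) k)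
    (hp : p ∈ Ideal.span ({G.1} ∪ Set.range fun i => MvPolynomial.pderiv i G.1)) :
    ProjChart.dehom r k j p ∈ Ideal.span ({ProjChart.dehom r k j G.1} ∪
      Set.range fun l => MvPolynomial.pderiv l (ProjChart.dehom r k j G.1)) := by
  have hle : Ideal.span ({G.1} ∪ Set.range fun i => MvPolynomial.pderiv i G.1) ≤
      (Ideal.span ({ProjChart.dehom r k j G.1} ∪
        Set.range fun l => MvPolynomial.pderiv l (ProjChart.dehom r k j G.1))).comap (ProjChart.dehom r k j) := by
    rw [Ideal.span_le]
    have hG : ProjChart.dehom r k j G.1 ∈ Ideal.span ({ProjChart.dehom r k j G.1} ∪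
        Set.range fun l => MvPolynomial.pderiv l (ProjChart.dehom r k j G.1)) :=
      Ideal.subset_span (Or.inl rfl)
    have hl : ∀ l : Fin r, ProjChart.dehom r k j (MvPolynomial.pderiv (j.succAbove l) G.1) ∈
        Ideal.span ({ProjChart.dehom r k j G.1} ∪
          Set.range fun l => MvPolynomial.pderiv l (ProjChart.dehom r k j G.1)) := fun l => by
      rw [← pderiv_dehom]
      exact Ideal.subset_span (Or.inr ⟨l, rfl⟩)
    rintro q (rfl | ⟨i, rfl⟩)
    · exact hG
    · change ProjChart.dehom r k j (MvPolynomial.pderiv i G.1) ∈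
        Ideal.span ({ProjChart.dehom r k j G.1} ∪
          Set.range fun l => MvPolynomial.pderiv l (ProjChart.dehom r k j G.1))
      obtain rfl | ⟨i, rfl⟩ := Fin.eq_self_or_eq_succAbove j i
      · have hE : ∑ i, MvPolynomial.X i * MvPolynomial.pderiv i G.1 = d • G.1 :=
          MvPolynomial.IsHomogeneous.sum_X_mul_pderiv G.2
        have hE2 := congrArg (ProjChart.dehom r k i) hE
        rw [map_sum, Fin.sum_univ_succAbove _ i] at hE2
        simp only [map_mul, ProjChart.dehom_X_self, ProjChart.dehom_X, one_mul] at hE2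
        have h5 : ProjChart.dehom r k i (MvPolynomial.pderiv i G.1) =
            ProjChart.dehom r k i (d • G.1) -
              ∑ l : Fin r, MvPolynomial.X l * ProjChart.dehom r k i (MvPolynomial.pderiv (i.succAbove l) G.1) := by
          rw [← hE2]; ring
        rw [h5]
        refine Ideal.sub_mem _ ?_ (Ideal.sum_mem _ fun l _ => Ideal.mul_mem_left _ _ (hl l))
        rw [map_nsmul, nsmul_eq_mul]
        exact Ideal.mul_mem_left _ _ hG
      · exact hl i
  exact hle hp

/-- A projective hypersurface is smooth if every variable has a power in the ideal generated by the equation and its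
partial derivatives. -/
theorem smooth_hyp_of_X_pow_mem (G : Form r k d)
    (h : ∀ j, ∃ n : ℕ, (MvPolynomial.X j : MvPolynomial (Fin (r + 1)) k) ^ n ∈
      Ideal.span ({G.1} ∪ Set.range fun i => MvPolynomial.pderiv i G.1)) :
    Smooth ((hypIdeal G).subschemeι ≫ CohB1.ProjSpace.toSpec r k) := by
  refine smooth_hyp_of_charts G fun j => ?_
  apply Groth.Agent.Lefpen.H705.JacHyp.smooth_quotient_of_pderiv
  obtain ⟨n, hn⟩ := h j
  have h1 := dehom_mem G j _ hn
  rw [map_pow, ProjChart.dehom_X_self, one_pow] at h1
  exact (Ideal.eq_top_iff_one _).mpr h1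

end Groth.Agent.Lefpen.H705.HypSmooth
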