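import Groth.Agent.Lefpen.H705.SecIdeal

/-!
# Functions on the standard charts as polynomials

* `polyToChart j : MvPolynomial (Fin r) k →+* Γ(P^r, D_+(T_j))` is bijective and
  `dehom G j = polyToChart j (ProjChart.dehom r k j G)`.
* `chart_appLE_dehom`: pulled back along `Spec k[x_1, …, x_r] ⟶ P^r`, `G / T_j^d` is the dehomogenized polynomial.
* `coordHom i j x hx : MvPolynomial (Fin r) k →+* O_{X,x}`, `stalkEqn i j x hx G = coordHom i j x hx (dehom G)`.
-/

set_option autoImplicit false
universe u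

open CategoryTheory AlgebraicGeometry Limits TopologicalSpace Opposite

namespace Groth.Agent.Lefpen.H705.ChartPoly

open LefPen Groth.Agent.Divis.IdealComap Groth.Agent.Fdesc.LocGen Groth.Agent.Lefpen.H705.HypIdeal
open Groth.Agent.Lefpen.H705.SecIdeal
open Groth.Agent.Sga5

section Away

open HomogeneousLocalization

/-- Sections over `D_+(f)` pulled back to `Spec (A_f)₀`. -/
theorem awayToSection_awayι {B : Type*} {σ : Type*} [CommRing B] [SetLike σ B]
    [AddSubgroupClass σ B] (𝒜 : ℕ → σ) [GradedRing 𝒜] {f : B} {m : ℕ} (f_deg : f ∈ 𝒜 m)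
    (hm : 0 < m) :
    Proj.awayToSection 𝒜 f ≫ (Proj.awayι 𝒜 f f_deg hm).appLE (Proj.basicOpen 𝒜 f) ⊤
      (by rw [← Proj.opensRange_awayι 𝒜 f f_deg hm, Scheme.Hom.preimage_opensRange]) =
      (Scheme.ΓSpecIso (CommRingCat.of (Away 𝒜 f))).inv := by
  let e := Proj.basicOpenIsoSpec 𝒜 f f_deg hm
  have h1 : e.hom.app ⊤ = _ := Proj.basicOpenToSpec_app_top 𝒜 f
  have h3 : (Proj.awayι 𝒜 f f_deg hm).appLE (Proj.basicOpen 𝒜 f) ⊤
      (by rw [← Proj.opensRange_awayι 𝒜 f f_deg hm, Scheme.Hom.preimage_opensRange]) =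
      (Proj.basicOpen 𝒜 f).topIso.inv ≫ e.inv.appTop := by
    have h4 := Scheme.Hom.appLE_comp_appLE e.inv (Proj.basicOpen 𝒜 f).ι
      (Proj.basicOpen 𝒜 f) ⊤ ⊤ (by rw [Scheme.Opens.ι_preimage_self]) le_top
    refine h4.symm.trans ?_
    congr 1
  have h5 : Proj.awayToSection 𝒜 f ≫ (Proj.basicOpen 𝒜 f).topIso.inv =
      (Scheme.ΓSpecIso (CommRingCat.of (Away 𝒜 f))).inv ≫ e.hom.appTop := by
    rw [Iso.eq_inv_comp]
    exact h1.symm
  rw [h3, ← Category.assoc, h5, Category.assoc, ← Scheme.Hom.comp_appTop, Iso.inv_hom_id]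
  simp

end Away

variable {r : ℕ} {k : Type u} [Field k] {d : ℕ}

/-- Polynomials in the affine coordinates as functions on the chart. -/
noncomputable def polyToChart (j : Fin (r + 1)) :
    MvPolynomial (Fin r) k →+* Γ(CohB1.ProjSpace r k, chart r k j) :=
  (Proj.awayToSection (CohB1.polyGrading r k) (MvPolynomial.X j)).hom.comp (ProjChart.ofPoly r k j)

theorem polyToChart_bijective (j : Fin (r + 1)) :
    Function.Bijective (polyToChart (r := r) (k := k) j) := by
  have h1 : Function.Bijective (ProjChart.ofPoly r k j) := (ProjChart.chartEquiv r k j).bijective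
  have h2 : IsIso (Proj.awayToSection (CohB1.polyGrading r k) (MvPolynomial.X j)) := by
    rw [← Proj.basicOpenIsoAway_hom (CohB1.polyGrading r k) (MvPolynomial.X j) (LefPen.X_mem r k j) Nat.one_pos]
    infer_instance
  have h3 := ConcreteCategory.bijective_of_isIso (Proj.awayToSection (CohB1.polyGrading r k) (MvPolynomial.X j))
  exact h3.comp h1

theorem ofPoly_dehom (G : Form r k d) (j : Fin (r + 1)) :
    ProjChart.ofPoly r k j (ProjChart.dehom r k j G.1) =
      HomogeneousLocalization.Away.mk (CohB1.polyGrading r k) (LefPen.X_mem r k j) d G.1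
        (by rw [smul_eq_mul, mul_one]; exact G.2) := by
  apply HomogeneousLocalization.val_injective
  rw [HomogeneousLocalization.Away.val_mk]
  have h := ProjChart.val_ofPoly_dehom r k j d G.1 G.2
  rw [Localization.mk_eq_mk', eq_comm, IsLocalization.mk'_eq_iff_eq_mul]
  exact h.symm

theorem dehom_eq (G : Form r k d) (j : Fin (r + 1)) :
    LefPen.dehom G j = polyToChart j (ProjChart.dehom r k j G.1) :=
  congrArg (Proj.awayToSection (CohB1.polyGrading r k) (MvPolynomial.X j)).hom (ofPoly_dehom G j).symm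

/-- The preimage of `D_+(T_j)` under the chart map is everything. -/
theorem top_le_preimage (j : Fin (r + 1)) :
    (⊤ : (Spec (CommRingCat.of (MvPolynomial (Fin r) k))).Opens) ≤
      (ProjSmooth.chart r k j) ⁻¹ᵁ (LefPen.chart r k j) := by
  rw [LefPen.chart, ← ProjSmooth.opensRange_chart, Scheme.Hom.preimage_opensRange]

theorem chart_appLE_polyToChart (j : Fin (r + 1)) (p : MvPolynomial (Fin r) k) :
    ((ProjSmooth.chart r k j).appLE (LefPen.chart r k j) ⊤ (top_le_preimage j)).hom (polyToChart j p) =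
      (Scheme.ΓSpecIso (CommRingCat.of (MvPolynomial (Fin r) k))).inv.hom p := by
  have h1 := awayToSection_awayι (CohB1.polyGrading r k) (LefPen.X_mem r k j) Nat.one_pos
  have e : (⊤ : (Spec (CommRingCat.of (HomogeneousLocalization.Away (CohB1.polyGrading r k)
      (MvPolynomial.X j)))).Opens) ≤
      (Proj.awayι (CohB1.polyGrading r k) (MvPolynomial.X j) (LefPen.X_mem r k j) Nat.one_pos) ⁻¹ᵁ
        (Proj.basicOpen (CohB1.polyGrading r k) (MvPolynomial.X j)) := by
    rw [← Proj.opensRange_awayι (CohB1.polyGrading r k) _ (LefPen.X_mem r k j) Nat.one_pos,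
          Scheme.Hom.preimage_opensRange]
  have h2 := Scheme.Hom.appLE_comp_appLE (Spec.map (CommRingCat.ofHom (ProjChart.chartEquiv r k j).symm.toRingHom))
    (Proj.awayι (CohB1.polyGrading r k) (MvPolynomial.X j) (LefPen.X_mem r k j) Nat.one_pos)
    (Proj.basicOpen (CohB1.polyGrading r k) (MvPolynomial.X j)) ⊤ ⊤ e le_top
  have h3 : (ProjSmooth.chart r k j).appLE (LefPen.chart r k j) ⊤ (top_le_preimage j) = _ := h2.symm
  have h4 : (Proj.awayToSection (CohB1.polyGrading r k) (MvPolynomial.X j)) ≫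
      (ProjSmooth.chart r k j).appLE (LefPen.chart r k j) ⊤ (top_le_preimage j) =
      CommRingCat.ofHom (ProjChart.chartEquiv r k j).symm.toRingHom ≫
        (Scheme.ΓSpecIso (CommRingCat.of (MvPolynomial (Fin r) k))).inv := by
    rw [h3]
    refine (Category.assoc _ _ _).symm.trans ?_
    refine (congrArg (· ≫ _) h1).trans ?_
    exact (Scheme.ΓSpecIso_inv_naturality _).symm
  have h5 := congr($(h4).hom (ProjChart.ofPoly r k j p))
  refine h5.trans ?_
  change (Scheme.ΓSpecIso (CommRingCat.of (MvPolynomial (Fin r) k))).inv.hom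
    ((ProjChart.chartEquiv r k j).symm (ProjChart.chartEquiv r k j p)) = _
  rw [RingEquiv.symm_apply_apply]

theorem chart_appLE_dehom (G : Form r k d) (j : Fin (r + 1)) :
    ((ProjSmooth.chart r k j).appLE (LefPen.chart r k j) ⊤ (top_le_preimage j)).hom (LefPen.dehom G j) =
      (Scheme.ΓSpecIso (CommRingCat.of (MvPolynomial (Fin r) k))).inv.hom (ProjChart.dehom r k j G.1) := by
  rw [dehom_eq, chart_appLE_polyToChart]

section Coord

variable {X : Scheme.{u}} (i : X ⟶ CohB1.ProjSpace r k)

/-- Polynomials in the affine coordinates as elements of a local ring of an embedded scheme. -/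
noncomputable def coordHom (j : Fin (r + 1)) (x : X) (hx : i x ∈ LefPen.chart r k j) :
    MvPolynomial (Fin r) k →+* X.presheaf.stalk x :=
  (i.stalkMap x).hom.comp
    (((CohB1.ProjSpace r k).presheaf.germ (LefPen.chart r k j) (i x) hx).hom.comp (polyToChart j))

theorem stalkEqn_eq (j : Fin (r + 1)) (x : X) (hx : i x ∈ LefPen.chart r k j) (G : Form r k d) :
    stalkEqn i j x hx G = coordHom i j x hx (ProjChart.dehom r k j G.1) := by
  rw [stalkEqn, dehom_eq]
  rfl

end Coord

end Groth.Agent.Lefpen.H705.ChartPoly
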