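import Mathlib.RingTheory.RingHom.Smooth
import Mathlib.RingTheory.TensorProduct.MvPolynomial
import Mathlib.RingTheory.TensorProduct.Quotient

/-!
# Base change of local models

`k → B` with `s : σ → B` such that `k[X_σ] → B` is smooth; `A` a `k`-algebra, `P ∈ A[X_σ]`:
`A[X_σ] → B ⊗ A` is smooth (`smooth_theta`) and `A[X_σ]/(P) → (B ⊗ A)/(P(s))` is smooth (`smooth_quotient_theta`).
-/

set_option autoImplicit false

universe u

namespace Groth.Agent.Lefpen.H705.LocModel

open TensorProduct

/-- The quotient of a smooth map by an ideal of the source is smooth. -/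
theorem smooth_quotientMap {P : Type u} {A : Type u} [CommRing P] [CommRing A] (f : P →+* A)
    (hf : f.Smooth) (I : Ideal P) (J : Ideal A) (hJ : J = I.map f) :
    (Ideal.quotientMap (I := I) J f (by rw [hJ]; exact Ideal.le_comap_map)).Smooth := by
  subst hJ
  let := f.toAlgebra
  have : Algebra.Smooth P A := hf
  have h1 : Algebra.Smooth (P ⧸ I) ((P ⧸ I) ⊗[P] A) := inferInstance
  have e₂ := (Algebra.TensorProduct.quotIdealMapEquivQuotTensor A I).symm
  have h2 : Algebra.Smooth (P ⧸ I) (A ⧸ I.map (algebraMap P A)) :=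
    Algebra.Smooth.of_equiv (A := (P ⧸ I) ⊗[P] A) e₂
  exact (RingHom.smooth_algebraMap (R := P ⧸ I) (S := A ⧸ I.map (algebraMap P A))).mpr h2

variable {k : Type u} (B A : Type u) [CommRing k] [CommRing B] [CommRing A] [Algebra k B] [Algebra k A]
  {σ : Type} (s : σ → B)

/-- The homomorphism `A[X_σ] → B ⊗ A`, `X_l ↦ s_l ⊗ 1`. -/
noncomputable def theta : MvPolynomial σ A →+* B ⊗[k] A :=
  MvPolynomial.eval₂Hom (Algebra.TensorProduct.includeRight : A →ₐ[k] B ⊗[k] A).toRingHom (fun l => s l ⊗ₜ[k] 1)

@[simp] theorem theta_C (a : A) : theta (k := k) B A s (MvPolynomial.C a) = (1 : B) ⊗ₜ[k] a := by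
  simp [theta]

@[simp] theorem theta_X (l : σ) : theta (k := k) B A s (MvPolynomial.X l) = s l ⊗ₜ[k] 1 := by
  simp [theta]

section

attribute [local instance] MvPolynomial.algebraMvPolynomial

/-- Base change of a smooth map to affine space. -/
theorem smooth_theta (hs : ((MvPolynomial.aeval s : MvPolynomial σ k →ₐ[k] B) :
    MvPolynomial σ k →+* B).Smooth) : (theta (k := k) B A s).Smooth := by
  let φ : MvPolynomial σ k →ₐ[k] B := MvPolynomial.aeval s
  let alg1 : Algebra (MvPolynomial σ k) B := φ.toRingHom.toAlgebra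
  let alg2 : Algebra (MvPolynomial σ A) (B ⊗[k] A) := (theta (k := k) B A s).toAlgebra
  let alg3 : Algebra A (B ⊗[k] A) := Algebra.TensorProduct.rightAlgebra
  have hst1 : IsScalarTower k (MvPolynomial σ k) B := .of_algebraMap_eq' φ.comp_algebraMap.symm
  have hst2 : IsScalarTower (MvPolynomial σ k) B (B ⊗[k] A) := inferInstance
  have hst3 : IsScalarTower (MvPolynomial σ k) (MvPolynomial σ A) (B ⊗[k] A) := by
    refine .of_algebraMap_eq' ?_
    apply MvPolynomial.ringHom_ext
    · intro c
      rw [IsScalarTower.algebraMap_eq (MvPolynomial σ k) B (B ⊗[k] A)]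
      change (algebraMap B (B ⊗[k] A)) (φ (MvPolynomial.C c)) = theta (k := k) B A s (MvPolynomial.map _ (MvPolynomial.C c))
      rw [MvPolynomial.map_C, theta_C, MvPolynomial.algHom_C, Algebra.TensorProduct.algebraMap_apply]
      rw [Algebra.algebraMap_self, RingHom.id_apply, Algebra.algebraMap_eq_smul_one, Algebra.algebraMap_eq_smul_one,
        TensorProduct.smul_tmul]
    · intro l
      rw [IsScalarTower.algebraMap_eq (MvPolynomial σ k) B (B ⊗[k] A)]
      change (algebraMap B (B ⊗[k] A)) (φ (MvPolynomial.X l)) = theta (k := k) B A s (MvPolynomial.map _ (MvPolynomial.X l))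
      rw [MvPolynomial.map_X, theta_X, MvPolynomial.aeval_X, Algebra.TensorProduct.algebraMap_apply]
      rfl
  have hst4 : IsScalarTower A (MvPolynomial σ A) (B ⊗[k] A) := by
    refine .of_algebraMap_eq fun a => ?_
    change _ = theta (k := k) B A s (MvPolynomial.C a)
    rw [theta_C]
    rfl
  have hst5 : IsScalarTower k A (B ⊗[k] A) := inferInstance
  have hst6 : IsScalarTower k (MvPolynomial σ A) (B ⊗[k] A) := by
    refine .of_algebraMap_eq fun c => ?_
    rw [IsScalarTower.algebraMap_apply k A (MvPolynomial σ A), ← IsScalarTower.algebraMap_apply A (MvPolynomial σ A),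
      ← IsScalarTower.algebraMap_apply k A]
  have hbig : Algebra.IsPushout k B A (B ⊗[k] A) := inferInstance
  have hpo : Algebra.IsPushout (MvPolynomial σ k) B (MvPolynomial σ A) (B ⊗[k] A) :=
    (Algebra.IsPushout.comp_iff k (MvPolynomial σ k) A (T := B) (S' := MvPolynomial σ A)).mp hbig
  have h1 : (algebraMap (MvPolynomial σ k) B).Smooth := hs
  exact RingHom.Smooth.isStableUnderBaseChange (MvPolynomial σ k) B (MvPolynomial σ A) (B ⊗[k] A) h1

end

/-- Base change of a smooth map to affine space, restricted to a hypersurface. -/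
theorem smooth_quotient_theta (hs : ((MvPolynomial.aeval s : MvPolynomial σ k →ₐ[k] B) :
    MvPolynomial σ k →+* B).Smooth) (P : MvPolynomial σ A) (J : Ideal (B ⊗[k] A))
    (hJ : J = Ideal.span {theta (k := k) B A s P}) :
    (Ideal.quotientMap (I := Ideal.span {P}) J (theta (k := k) B A s) (by
      rw [hJ, ← Set.image_singleton, ← Ideal.map_span]; exact Ideal.le_comap_map)).Smooth :=
  smooth_quotientMap _ (smooth_theta B A s hs) _ _ (by rw [hJ, Ideal.map_span, Set.image_singleton])

end Groth.Agent.Lefpen.H705.LocModel
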